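import Mathlib
import Groth.Agent.FibSemi.Equidim
import Groth.Prelude.Def_EGA4b

/-!
Equidimensionality at a point, read on points.
-/

set_option autoImplicit false
set_option linter.style.haveILetI false
universe u
open CategoryTheory AlgebraicGeometry Limits Topology TopologicalSpace

noncomputable section

namespace Groth.Agent.GUOpen

open FibSemi

variable {X Y : Scheme.{u}} (f : X ⟶ Y)

/-- Criterion for equidimensionality at a point, on any base. -/
theorem isEquidimAt_of_component [LocallyOfFiniteType f] (w : X) (U : X.Opens) (hw : w ∈ U) (d : ℕ)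
    (W : Set Y) (hW : W ∈ irreducibleComponents (Y : Type u)) (hwW : f w ∈ W)
    (hmax : ∀ ξ ∈ U, (∀ z, z ⤳ ξ → z = ξ) →
      closure {f ξ} = W ∧ Order.krullDim {z : X | f z = f ξ ∧ ξ ⤳ z} = d)
    (hle : ∀ z ∈ U, FlatMor.fibreDimAt f z ≤ d) : EGA43.IsEquidimAt f w := by
  refine ⟨d, U, hw, fun Z hZ => ⟨W, hW, hwW, ?_⟩, fun x' C hC => ?_⟩
  · haveI : QuasiSober ↥U := U.isOpen.isOpenEmbedding_subtypeVal.quasiSober
    obtain ⟨ξ, hξ⟩ := QuasiSober.sober hZ.1 (isClosed_of_mem_irreducibleComponents Z hZ)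
    have hξmax : ∀ z : X, z ⤳ U.ι ξ → z = U.ι ξ := fun z hz => by
      obtain ⟨z', rfl⟩ : z ∈ Set.range U.ι := by
        rw [Scheme.Opens.range_ι]; exact hz.mem_open U.isOpen ξ.2
      exact congrArg _ (QSect.max_of_component hZ hξ z' ((le_of_specializes_open U _ _).mp hz))
    rw [← (hmax _ ξ.2 hξmax).1, show Z = closure {ξ} from hξ.symm]
    refine (closure_image_closure (s := ({ξ} : Set U.toScheme)) (U.ι ≫ f).continuous).trans ?_
    exact congrArg closure Set.image_singleton
  · let g : U.toScheme ⟶ Y := U.ι ≫ f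
    let y := g x'
    let k := Y.residueField y
    letI : (g.fiber y).Over (Spec (CommRingCat.of k)) := ⟨g.fiberToSpecResidueField y⟩
    haveI : LocallyOfFiniteType (g.fiber y ↘ Spec (CommRingCat.of k)) :=
      inferInstanceAs (LocallyOfFiniteType (pullback.snd g (Y.fromSpecResidueField y)))
    obtain ⟨c', hc'⟩ := QuasiSober.sober hC.1 (isClosed_of_mem_irreducibleComponents C hC)
    rw [← hc'.def, QSect.topDim_closure_singleton]
    let c := g.fiberι y c'
    have hgc : g c = y := by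
      have : c ∈ Set.range (g.fiberι y) := ⟨c', rfl⟩
      rwa [g.range_fiberι] at this
    have h1 : ((Order.height c' : ℕ∞) : WithBot ℕ∞) = Order.krullDim {z : U.toScheme | g z = g c ∧ c ⤳ z} := by
      rw [Order.height_eq_krullDim_Iic]
      refine krullDim_eq_of_embedding (g.fiberι y) (fiberι_le_iff g _) (g.fiberι y).isEmbedding.injective _ _
        fun z => ?_
      constructor
      · rintro ⟨hz, hzx⟩
        obtain ⟨v, rfl⟩ : z ∈ Set.range (g.fiberι y) := by rw [g.range_fiberι]; exact hz.trans hgc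
        exact ⟨v, (fiberι_le_iff g _ _ _).mp hzx, rfl⟩
      · rintro ⟨v, hv, rfl⟩
        refine ⟨?_, (fiberι_le_iff g _ _ _).mpr hv⟩
        have : g.fiberι y v ∈ Set.range (g.fiberι y) := ⟨v, rfl⟩
        rw [g.range_fiberι] at this
        exact (show g (g.fiberι y v) = y from this).trans hgc.symm
    rw [h1, krullDim_specs_opens f U c]
    obtain ⟨n, m, hn, hm, hfd⟩ := fibreDimAt_eq_add f (U.ι c)
    have hn0 : n = 0 := by
      have h0 : Order.krullDim {z : X | f z = f (U.ι c) ∧ z ⤳ U.ι c} ≤ 0 := by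
        haveI : Subsingleton {z : X | f z = f (U.ι c) ∧ z ⤳ U.ι c} := by
          refine ⟨fun a b => Subtype.ext ?_⟩
          suffices H : ∀ z : {z : X | f z = f (U.ι c) ∧ z ⤳ U.ι c}, z.1 = U.ι c from (H a).trans (H b).symm
          rintro ⟨z, hz, hzc⟩
          obtain ⟨z', rfl⟩ : z ∈ Set.range U.ι := by
            rw [Scheme.Opens.range_ι]; exact hzc.mem_open U.isOpen c.2
          obtain ⟨v, rfl⟩ : z' ∈ Set.range (g.fiberι y) := by rw [g.range_fiberι]; exact hz.trans hgc
          have hvc : v ⤳ c' := (g.fiberι y).isEmbedding.specializes_iff.mp ((le_of_specializes_open U _ _).mp hzc)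
          show U.ι (g.fiberι y v) = U.ι c
          rw [QSect.max_of_component hC hc' v hvc]
        exact Order.krullDim_nonpos_of_subsingleton
      rw [hn] at h0
      exact Nat.le_zero.mp (ENat.natCast_le_natCast.mp (WithBot.coe_le_coe.mp h0))
    subst hn0
    rw [zero_add] at hfd
    obtain ⟨ξ, hξc, hξmax⟩ := exists_max_specializes (U.ι c)
    obtain ⟨hfξ, hξd⟩ := hmax ξ (hξc.mem_open U.isOpen c.2) hξmax
    have h2 := topDim_closure_le_fibreDimAt f hξc
    rw [topDim_closure_inter_fibre_eq, hξd, hfd] at h2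
    have h3 := hle _ c.2
    change FlatMor.fibreDimAt f (U.ι c) ≤ _ at h3
    rw [hfd] at h3
    rw [hm]
    exact le_antisymm h3 h2

/-- Primes of a stalk above a given one, counted on points. -/
theorem ringKrullDim_quotient_stalk (x : X) (p : PrimeSpectrum (X.presheaf.stalk x)) :
    ringKrullDim (X.presheaf.stalk x ⧸ p.asIdeal) =
      Order.krullDim {z : X | X.fromSpecStalk x p ⤳ z ∧ z ⤳ x} := by
  let i := X.fromSpecStalk x
  have hi : ∀ a b : PrimeSpectrum (X.presheaf.stalk x), a ≤ b ↔ i a ⤳ i b := fun a b =>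
    (PrimeSpectrum.le_iff_specializes a b).trans i.isEmbedding.specializes_iff.symm
  rw [ringKrullDim_quotient]
  have hr : ∀ z, z ⤳ x ↔ z ∈ Set.range i := fun z => by
    rw [show Set.range i = {z | z ⤳ x} from Scheme.range_fromSpecStalk]
    rfl
  let g : (↥(PrimeSpectrum.zeroLocus (R := X.presheaf.stalk x) (p.asIdeal : Set (X.presheaf.stalk x))))ᵒᵈ →
      {z : X | i p ⤳ z ∧ z ⤳ x} := fun q =>
    ⟨i (OrderDual.ofDual q).1, (hi p _).mp (OrderDual.ofDual q).2, (hr _).mpr ⟨_, rfl⟩⟩
  have hg : Function.Bijective g := by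
    refine ⟨fun a b h => OrderDual.ofDual.injective (Subtype.ext (i.isEmbedding.injective (congrArg Subtype.val h :))), ?_⟩
    rintro ⟨z, hz1, hz2⟩
    obtain ⟨q, rfl⟩ := (hr z).mp hz2
    exact ⟨OrderDual.toDual ⟨q, (hi p q).mpr hz1⟩, rfl⟩
  rw [← Order.krullDim_orderDual]
  refine Order.krullDim_eq_of_orderIso { toEquiv := Equiv.ofBijective g hg, map_rel_iff' := ?_ }
  intro a b
  exact (hi _ _).symm

/-- A local ring is equidimensional iff all maximal generizations see the whole dimension. -/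
theorem isEquidim_stalk_iff (x : X) :
    EGA4.IsEquidim (X.presheaf.stalk x) ↔ ∀ ξ : X, ξ ⤳ x → (∀ z, z ⤳ ξ → z = ξ) →
      Order.krullDim {z : X | ξ ⤳ z ∧ z ⤳ x} = Order.krullDim {z : X | z ⤳ x} := by
  let i := X.fromSpecStalk x
  have hi : ∀ a b : PrimeSpectrum (X.presheaf.stalk x), a ≤ b ↔ i a ⤳ i b := fun a b =>
    (PrimeSpectrum.le_iff_specializes a b).trans i.isEmbedding.specializes_iff.symm
  have hr : ∀ z, z ⤳ x ↔ z ∈ Set.range i := fun z => by
    rw [show Set.range i = {z | z ⤳ x} from Scheme.range_fromSpecStalk]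
    rfl
  constructor
  · intro h ξ hξx hξ
    obtain ⟨p, rfl⟩ := (hr ξ).mp hξx
    rw [← ringKrullDim_quotient_stalk x p, ← ringKrullDim_stalk_eq]
    refine h _ ⟨⟨p.isPrime, bot_le⟩, fun J hJ hJp => ?_⟩
    have h1 := hξ _ ((hi ⟨J, hJ.1⟩ p).mp hJp)
    exact (congrArg PrimeSpectrum.asIdeal (i.isEmbedding.injective h1)).ge
  · intro h p hp
    let P : PrimeSpectrum (X.presheaf.stalk x) := ⟨p, hp.1.1⟩
    have h1 := h (i P) ((hr _).mpr ⟨_, rfl⟩) fun z hz => by
      obtain ⟨q, rfl⟩ := (hr z).mp (hz.trans ((hr _).mpr ⟨_, rfl⟩))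
      have hle : q.asIdeal ≤ p := (hi q P).mpr hz
      exact congrArg i (PrimeSpectrum.ext (le_antisymm hle (hp.2 ⟨q.isPrime, bot_le⟩ hle)))
    rw [← ringKrullDim_quotient_stalk x P, ← ringKrullDim_stalk_eq] at h1
    exact h1

end Groth.Agent.GUOpen
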