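import Mathlib
import Groth.Agent.FibSemi.Equidim

/-!
Dimensions of pieces of a fibre, counted on points; generizations inside affine neighbourhoods.
-/

set_option autoImplicit false
set_option linter.style.haveILetI false
universe u
open CategoryTheory AlgebraicGeometry Limits Topology TopologicalSpace

noncomputable section

namespace Groth.Agent.GUOpen

variable {X Y : Scheme.{u}} (f : X ⟶ Y)

/-- The dimension of a closed∩open piece of a fibre, counted on points. -/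
theorem topDim_piece (S : Set X) (hS : IsClosed S) (U : X.Opens) (y : Y) :
    topologicalKrullDim ↥(((U : Set X) ∩ S) ∩ f ⁻¹' {y}) = Order.krullDim {z : X | f z = y ∧ z ∈ S ∧ z ∈ U} := by
  let T := ((U : Set X) ∩ S) ∩ f ⁻¹' {y}
  haveI : QuasiSober (f ⁻¹' {y}) := (f.fiberHomeo y).symm.isClosedEmbedding.quasiSober
  let Sf : Set (f ⁻¹' {y}) := Subtype.val ⁻¹' S
  haveI : QuasiSober Sf := (hS.preimage continuous_subtype_val).isClosedEmbedding_subtypeVal.quasiSober
  let Uf : Set Sf := (fun z => (z.1.1 : X)) ⁻¹' (U : Set X)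
  haveI : QuasiSober Uf := (U.isOpen.preimage (continuous_subtype_val.comp continuous_subtype_val)).isOpenEmbedding_subtypeVal.quasiSober
  let e : Uf ≃ₜ T :=
    { toFun := fun x => ⟨x.1.1.1, ⟨x.2, x.1.2⟩, x.1.1.2⟩
      invFun := fun x => ⟨⟨⟨x.1, x.2.2⟩, x.2.1.2⟩, x.2.1.1⟩
      left_inv := fun _ => rfl
      right_inv := fun _ => rfl
      continuous_toFun := by fun_prop
      continuous_invFun := by fun_prop }
  haveI : QuasiSober T := e.symm.isClosedEmbedding.quasiSober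
  rw [show topologicalKrullDim ↥(((U : Set X) ∩ S) ∩ f ⁻¹' {y}) = Order.krullDim T from
    (DimLift.topDim_eq_krullDim_points (X := T)).trans (by
      congr 1
      exact Preorder.ext fun a b => subtype_specializes_iff b a)]
  refine FibSemi.krullDim_eq_of_embedding id (fun _ _ => Iff.rfl) Function.injective_id _ _ fun z => ?_
  exact ⟨fun hz => ⟨z, ⟨⟨hz.2.2, hz.2.1⟩, hz.1⟩, rfl⟩, fun ⟨w, hw, h⟩ => h ▸ ⟨hw.2, hw.1.2, hw.1.1⟩⟩

/-- The dimension of an open piece of a fibre. -/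
theorem topDim_open_inter_fibre (U : X.Opens) (y : Y) :
    topologicalKrullDim ↥((U : Set X) ∩ f ⁻¹' {y}) = Order.krullDim {z : X | f z = y ∧ z ∈ U} := by
  have h := topDim_piece f Set.univ isClosed_univ U y
  rw [Set.inter_univ] at h
  rw [h]
  exact congrArg (fun T : Set X => Order.krullDim T) (by ext z; simp)

/-- The dimension of a closed piece of a fibre. -/
theorem topDim_closed_inter_fibre (S : Set X) (hS : IsClosed S) (y : Y) :
    topologicalKrullDim ↥(S ∩ f ⁻¹' {y}) = Order.krullDim {z : X | f z = y ∧ z ∈ S} := by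
  have h := topDim_piece f S hS ⊤ y
  rw [TopologicalSpace.Opens.coe_top, Set.univ_inter] at h
  rw [h]
  exact congrArg (fun T : Set X => Order.krullDim T) (by ext z; simp)

/-- Local dimension bounds on a closed piece of a fibre are witnessed by open sets. -/
theorem localDim_le_iff (S : Set X) (hS : IsClosed S) (x : X) (hx : x ∈ S) (n : WithBot ℕ∞) (y : Y) (hxy : f x = y) :
    FlatMor.localDim ↥(S ∩ f ⁻¹' {y}) ⟨x, hx, hxy⟩ ≤ n ↔
      ∃ U : X.Opens, x ∈ U ∧ Order.krullDim {z : X | f z = y ∧ z ∈ S ∧ z ∈ U} ≤ n := by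
  constructor
  · intro h
    haveI : Nonempty {O : Opens ↥(S ∩ f ⁻¹' {y}) // (⟨x, hx, hxy⟩ : ↥(S ∩ f ⁻¹' {y})) ∈ O} := ⟨⟨⊤, trivial⟩⟩
    obtain ⟨⟨O, hxO⟩, hO⟩ := ciInf_mem fun O : {O : Opens ↥(S ∩ f ⁻¹' {y}) //
      (⟨x, hx, hxy⟩ : ↥(S ∩ f ⁻¹' {y})) ∈ O} => topologicalKrullDim (O.1 : Set ↥(S ∩ f ⁻¹' {y}))
    replace hO : topologicalKrullDim (O : Set ↥(S ∩ f ⁻¹' {y})) ≤ n := le_trans (le_of_eq hO) h
    obtain ⟨O', hO'o, hO'⟩ := isOpen_induced_iff.mp O.2
    refine ⟨⟨O', hO'o⟩, ?_, ?_⟩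
    · have h1 : (⟨x, hx, hxy⟩ : ↥(S ∩ f ⁻¹' {y})) ∈ Subtype.val ⁻¹' O' := hO' ▸ hxO
      exact h1
    · rw [← topDim_piece f S hS ⟨O', hO'o⟩ y]
      refine le_trans ?_ hO
      have hmem : ∀ w : ↥(((⟨O', hO'o⟩ : X.Opens) : Set X) ∩ S ∩ f ⁻¹' {y}),
          (⟨w.1, w.2.1.2, w.2.2⟩ : ↥(S ∩ f ⁻¹' {y})) ∈ (O : Set ↥(S ∩ f ⁻¹' {y})) := fun w => by
        rw [show (O : Set ↥(S ∩ f ⁻¹' {y})) = Subtype.val ⁻¹' O' from hO'.symm]
        exact w.2.1.1
      refine IsInducing.topologicalKrullDim_le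
        (f := fun w => (⟨⟨w.1, w.2.1.2, w.2.2⟩, hmem w⟩ : (O : Set ↥(S ∩ f ⁻¹' {y})))) ?_
      exact IsInducing.of_comp (by fun_prop) (continuous_subtype_val.comp continuous_subtype_val)
        IsInducing.subtypeVal
  · rintro ⟨U, hxU, hU⟩
    refine iInf_le_of_le ⟨⟨Subtype.val ⁻¹' (U : Set X), U.isOpen.preimage continuous_subtype_val⟩, hxU⟩ ?_
    refine le_trans ?_ ((topDim_piece f S hS U y).trans_le hU)
    refine IsInducing.topologicalKrullDim_le
      (f := fun w : ↥((Subtype.val ⁻¹' (U : Set X)) : Set ↥(S ∩ f ⁻¹' {y})) =>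
        (⟨w.1.1, ⟨w.2, w.1.2.1⟩, w.1.2.2⟩ : ↥((U : Set X) ∩ S ∩ f ⁻¹' {y}))) ?_
    refine IsInducing.of_comp (g := Subtype.val) (by fun_prop) continuous_subtype_val ?_
    exact (IsInducing.subtypeVal.comp IsInducing.subtypeVal :
      IsInducing (Subtype.val ∘ (Subtype.val : ↥((Subtype.val ⁻¹' (U : Set X)) : Set ↥(S ∩ f ⁻¹' {y})) → ↥(S ∩ f ⁻¹' {y}))))

/-- Bounds on the local dimension of a fibre are witnessed by open sets. -/
theorem fibreDimAt_le_iff (x : X) (n : WithBot ℕ∞) :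
    FlatMor.fibreDimAt f x ≤ n ↔ ∃ U : X.Opens, x ∈ U ∧ Order.krullDim {z : X | f z = f x ∧ z ∈ U} ≤ n := by
  rw [FibSemi.fibreDimAt_eq]
  have h := localDim_le_iff f Set.univ isClosed_univ x trivial n (f x) rfl
  have hset : ∀ U : X.Opens, {z : X | f z = f x ∧ z ∈ (Set.univ : Set X) ∧ z ∈ U} = {z : X | f z = f x ∧ z ∈ U} :=
    fun U => by ext z; simp
  refine Iff.trans ?_ (h.trans (exists_congr fun U => and_congr_right fun _ =>
    iff_of_eq (congrArg (fun T : Set X => Order.krullDim T ≤ n) (hset U))))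
  let e' : ↥(Set.univ ∩ f ⁻¹' {f x}) ≃ₜ ↥(f ⁻¹' {f x}) :=
    { toFun := fun w => ⟨w.1, w.2.2⟩
      invFun := fun w => ⟨w.1, trivial, w.2⟩
      left_inv := fun _ => rfl
      right_inv := fun _ => rfl
      continuous_toFun := by fun_prop
      continuous_invFun := by fun_prop }
  have h1 := FibSemi.localDim_homeo e' ⟨x, trivial, rfl⟩
  have h2 := FibSemi.localDim_homeo e'.symm ⟨x, rfl⟩
  exact ⟨fun hn => h2.trans hn, fun hn => h1.trans hn⟩

/-- The local dimension of a closed piece of the fibre is at most that of the fibre. -/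
theorem localDim_le_fibreDimAt [LocallyOfFiniteType f] (S : Set X) (hS : IsClosed S) (x : X) (hx : x ∈ S) :
    FlatMor.localDim ↥(S ∩ f ⁻¹' {f x}) ⟨x, hx, rfl⟩ ≤ FlatMor.fibreDimAt f x := by
  obtain ⟨U, hxU, hU⟩ := (fibreDimAt_le_iff f x _).mp le_rfl
  exact (localDim_le_iff f S hS x hx _ _ rfl).mpr ⟨U, hxU, le_trans (FibSemi.krullDim_mono (T := {z : X | f z = f x ∧ z ∈ U}) fun z hz => ⟨hz.1, hz.2.2⟩) hU⟩

/-- In a quasi-compact open, a fibre has finitely many maximal points, and they generize everything. -/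
theorem exists_finite_max [LocallyOfFiniteType f] (V : X.Opens) (hV : IsCompact (V : Set X)) (y : Y) :
    ∃ M : Set X, M.Finite ∧ (∀ c ∈ M, c ∈ V ∧ f c = y ∧ ∀ z, f z = y → z ⤳ c → z = c) ∧
      ∀ w ∈ V, f w = y → ∃ c ∈ M, c ⤳ w := by
  let F := f.fiber y
  have hV' : IsAffine (Spec (CommRingCat.of (Y.residueField y))) := inferInstance
  haveI : LocallyOfFiniteType (f.fiberToSpecResidueField y) :=
    inferInstanceAs (LocallyOfFiniteType (pullback.snd f (Y.fromSpecResidueField y)))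
  haveI : IsLocallyNoetherian F := LocallyOfFiniteType.isLocallyNoetherian (f.fiberToSpecResidueField y)
  haveI : QuasiCompact (Y.fromSpecResidueField y) := inferInstance
  haveI : QuasiCompact (f.fiberι y) := inferInstanceAs (QuasiCompact (pullback.fst f (Y.fromSpecResidueField y)))
  let O : F.Opens := f.fiberι y ⁻¹ᵁ V
  have hO : IsCompact (O : Set F) := QuasiCompact.isCompact_preimage _ V.isOpen hV
  haveI : CompactSpace O.toScheme := isCompact_iff_compactSpace.mp hO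
  haveI : IsNoetherian O.toScheme := {}
  haveI : NoetherianSpace O.toScheme := inferInstance
  let g : O.toScheme → X := fun w => f.fiberι y (O.ι w)
  have hfg : ∀ w, f (g w) = y := fun w => by
    have : g w ∈ Set.range (f.fiberι y) := ⟨_, rfl⟩
    rwa [f.range_fiberι] at this
  have hgV : ∀ w : O.toScheme, g w ∈ V := fun w => w.2
  have hg : ∀ z, f z = y → z ∈ V → ∃ w, g w = z := fun z hz hzV => by
    obtain ⟨v, rfl⟩ : z ∈ Set.range (f.fiberι y) := by rw [f.range_fiberι]; exact hz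
    exact ⟨⟨v, hzV⟩, rfl⟩
  have hgle : ∀ a b, g a ⤳ g b ↔ a ⤳ b := fun a b =>
    (f.fiberι y).isEmbedding.specializes_iff.trans O.ι.isEmbedding.specializes_iff
  have hfin : (irreducibleComponents O.toScheme).Finite := NoetherianSpace.finite_irreducibleComponents
  haveI := hfin.to_subtype
  choose gen hgen using fun C : irreducibleComponents O.toScheme =>
    QuasiSober.sober C.2.1 (isClosed_of_mem_irreducibleComponents C.1 C.2)
  refine ⟨Set.range fun C => g (gen C), Set.finite_range _, ?_, fun w hwV hw => ?_⟩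
  · rintro _ ⟨C, rfl⟩
    refine ⟨hgV _, hfg _, fun z hz hzc => ?_⟩
    obtain ⟨v, rfl⟩ := hg z hz (hzc.mem_open V.isOpen (hgV _))
    exact congrArg g (QSect.max_of_component C.2 (hgen C) v ((hgle _ _).mp hzc))
  · obtain ⟨v, rfl⟩ := hg w hw hwV
    exact ⟨_, ⟨⟨_, irreducibleComponent_mem_irreducibleComponents v⟩, rfl⟩,
      (hgle _ _).mpr ((hgen ⟨_, irreducibleComponent_mem_irreducibleComponents v⟩).specializes mem_irreducibleComponent)⟩

/-- Shrinking a neighbourhood of `x` so that, over `y`, only generizations of `x` are maximal in it. -/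
theorem exists_nhd_max [LocallyOfFiniteType f] (x : X) (y : Y) :
    ∃ V : X.Opens, x ∈ V ∧ ∀ w ∈ V, f w = y → ∃ c, c ⤳ w ∧ c ⤳ x ∧ f c = y ∧ ∀ z, f z = y → z ⤳ c → z = c := by
  obtain ⟨V₀, hV₀, hxV, -⟩ := exists_isAffineOpen_mem_and_subset (U := ⊤) (x := x) trivial
  obtain ⟨M, hM, hMmax, hMgen⟩ := exists_finite_max f V₀ hV₀.isCompact y
  let C : Set X := ⋃ c ∈ {c ∈ M | ¬ c ⤳ x}, closure {c}
  have hC : IsClosed C := (hM.subset (Set.sep_subset M _)).isClosed_biUnion fun _ _ => isClosed_closure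
  refine ⟨V₀ ⊓ ⟨Cᶜ, hC.isOpen_compl⟩, ⟨hxV, ?_⟩, fun w hw hwy => ?_⟩
  · intro hx
    obtain ⟨c, hc, hcx⟩ := Set.mem_iUnion₂.mp hx
    exact hc.2 (specializes_iff_mem_closure.mpr hcx)
  · obtain ⟨c, hc, hcw⟩ := hMgen w hw.1 hwy
    refine ⟨c, hcw, ?_, (hMmax c hc).2.1, (hMmax c hc).2.2⟩
    by_contra hcx
    exact hw.2 (Set.mem_iUnion₂.mpr ⟨c, ⟨hc, hcx⟩, specializes_iff_mem_closure.mp hcw⟩)

end Groth.Agent.GUOpen
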