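import Mathlib
import Groth.Agent.GUOpen.Fibre
import Groth.Agent.LocCoh.Misc
import Groth.Agent.ConstrLib.Basic
import Groth.Agent.FlatMisc.FibreDimScheme

/-!
Openness at a maximal point of a fibre bounds the dimension of the nearby fibres from below (EGA IV 14.2).
-/

set_option autoImplicit false
set_option linter.style.haveILetI false
universe u
open CategoryTheory AlgebraicGeometry Limits Topology TopologicalSpace

noncomputable section

namespace Groth.Agent.GUOpen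

/-- Over a generization, in any neighbourhood of it, a one-dimensional specialization towards `y`. -/
theorem exists_between_oneDim {Y : Scheme.{u}} [IsLocallyNoetherian Y] {η y : Y} (hηy : η ⤳ y) (O : Set Y)
    (hO : IsOpen O) (hη : η ∈ O) (hy : y ∉ O) :
    ∃ y₁ ∈ O, η ⤳ y₁ ∧ y₁ ⤳ y ∧ Order.krullDim {w : Y | y₁ ⤳ w ∧ w ⤳ y} ≤ 1 := by
  classical
  obtain ⟨V, hV, hyV, -⟩ := exists_isAffineOpen_mem_and_subset (U := ⊤) (x := y) trivial
  haveI : IsNoetherianRing Γ(Y, V) := IsLocallyNoetherian.component_noetherian ⟨V, hV⟩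
  obtain ⟨p, rfl⟩ := DimSpec.exists_fromSpec hV hyV
  obtain ⟨N, rfl⟩ := DimSpec.exists_fromSpec hV (hηy.mem_open V.isOpen hyV)
  have hle_iff : ∀ a b : PrimeSpectrum Γ(Y, V), a ≤ b ↔ hV.fromSpec a ⤳ hV.fromSpec b := fun a b =>
    (PrimeSpectrum.le_iff_specializes a b).trans hV.fromSpec.isOpenEmbedding.isEmbedding.specializes_iff.symm
  obtain ⟨_, ⟨_, ⟨s, rfl⟩, rfl⟩, hNs, hsO⟩ := PrimeSpectrum.isBasis_basic_opens.exists_subset_of_mem_open
    (show N ∈ hV.fromSpec ⁻¹' O from hη) (hO.preimage hV.fromSpec.continuous)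
  have hsp : s ∈ p.asIdeal := by
    by_contra h
    exact hy (hsO h)
  have hNp : N ≤ p := (hle_iff N p).mpr hηy
  haveI := p.isPrime; haveI := N.isPrime
  let L := Localization.AtPrime p.asIdeal
  have hd : Disjoint (p.asIdeal.primeCompl : Set Γ(Y, V)) N.asIdeal :=
    Set.disjoint_left.mpr fun x hx hxN => hx (hNp hxN)
  let NL : Ideal L := N.asIdeal.map (algebraMap Γ(Y, V) L)
  haveI : NL.IsPrime := IsLocalization.isPrime_of_isPrime_disjoint p.asIdeal.primeCompl L N.asIdeal N.isPrime hd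
  have hNL : NL.comap (algebraMap Γ(Y, V) L) = N.asIdeal :=
    IsLocalization.under_map_of_isPrime_disjoint p.asIdeal.primeCompl L N.isPrime hd
  let A := L ⧸ NL
  haveI : IsDomain A := Ideal.Quotient.isDomain _
  haveI : IsLocalRing A := .of_surjective' (Ideal.Quotient.mk NL) Ideal.Quotient.mk_surjective
  let π : Γ(Y, V) →+* A := (Ideal.Quotient.mk NL).comp (algebraMap Γ(Y, V) L)
  have hsA : π s ∈ IsLocalRing.maximalIdeal A := by
    intro hu
    haveI : IsLocalHom (Ideal.Quotient.mk NL) :=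
      IsLocalHom.of_surjective _ Ideal.Quotient.mk_surjective
    exact (IsLocalization.AtPrime.isUnit_to_map_iff L p.asIdeal s).mp
      (IsUnit.of_map (Ideal.Quotient.mk NL) _ hu) hsp
  have hs0 : π s ≠ 0 := fun h => hNs (by
    show s ∈ N.asIdeal
    rw [← hNL]
    exact Ideal.mem_comap.mpr (Ideal.Quotient.eq_zero_iff_mem.mp h))
  obtain ⟨P, hPI, hPdim⟩ := LocCoh.exists_prime_coheight_one (A := A) (Ideal.span {π s})
    (fun h => (IsLocalRing.maximalIdeal.isMaximal A).ne_top (top_le_iff.mp (h.ge.trans ((Ideal.span_singleton_le_iff_mem _).mpr hsA))))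
    (fun q hq h => by
      rw [IsDomain.minimalPrimes_eq_singleton_bot, Set.mem_singleton_iff] at hq
      subst hq
      exact hs0 (Ideal.mem_bot.mp (h (Ideal.subset_span rfl))))
  haveI := P.isPrime
  let Q : PrimeSpectrum Γ(Y, V) := P.comap π
  have hNQ : N ≤ Q := fun c hc => by
    show π c ∈ P.asIdeal
    rw [show π c = 0 from Ideal.Quotient.eq_zero_iff_mem.mpr (Ideal.mem_map_of_mem _ hc)]
    exact zero_mem _
  have hQp : Q ≤ p := fun c (hc : π c ∈ P.asIdeal) => by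
    by_contra hcp
    exact P.isPrime.ne_top (Ideal.eq_top_of_isUnit_mem _ hc
      (((IsLocalization.AtPrime.isUnit_to_map_iff L p.asIdeal c).mpr hcp).map (Ideal.Quotient.mk NL)))
  refine ⟨hV.fromSpec Q, hsO fun h => hPI ((Ideal.span_singleton_le_iff_mem _).mpr h), (hle_iff N Q).mp hNQ,
    (hle_iff Q p).mp hQp, ?_⟩
  -- every point in between comes from `Spec (A ⧸ P)`
  have hlift : ∀ w ∈ {w : Y | hV.fromSpec Q ⤳ w ∧ w ⤳ hV.fromSpec p}, ∃ R : PrimeSpectrum (A ⧸ P.asIdeal),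
      hV.fromSpec (R.comap ((Ideal.Quotient.mk P.asIdeal).comp π)) = w := by
    rintro w ⟨hQw, hwp⟩
    obtain ⟨R, rfl⟩ := DimSpec.exists_fromSpec hV (hwp.mem_open V.isOpen hyV)
    haveI := R.isPrime
    have hRp : R ≤ p := (hle_iff R p).mpr hwp
    have hQR : Q ≤ R := (hle_iff Q R).mpr hQw
    have hdR : Disjoint (p.asIdeal.primeCompl : Set Γ(Y, V)) R.asIdeal :=
      Set.disjoint_left.mpr fun x hx hxN => hx (hRp hxN)
    let RL : Ideal L := R.asIdeal.map (algebraMap Γ(Y, V) L)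
    haveI : RL.IsPrime := IsLocalization.isPrime_of_isPrime_disjoint p.asIdeal.primeCompl L R.asIdeal R.isPrime hdR
    have hRL : RL.comap (algebraMap Γ(Y, V) L) = R.asIdeal :=
      IsLocalization.under_map_of_isPrime_disjoint p.asIdeal.primeCompl L R.isPrime hdR
    have hNLR : NL ≤ RL := Ideal.map_mono (hNQ.trans hQR)
    let RA : Ideal A := RL.map (Ideal.Quotient.mk NL)
    haveI : RA.IsPrime := Ideal.map_isPrime_of_surjective Ideal.Quotient.mk_surjective (by rw [Ideal.mk_ker]; exact hNLR)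
    have hRA : RA.comap (Ideal.Quotient.mk NL) = RL := by
      rw [Ideal.comap_map_of_surjective _ Ideal.Quotient.mk_surjective, ← RingHom.ker_eq_comap_bot, Ideal.mk_ker,
        sup_eq_left]
      exact hNLR
    have hPR : P.asIdeal ≤ RA := fun z hz => by
      obtain ⟨z, rfl⟩ := Ideal.Quotient.mk_surjective z
      obtain ⟨c, t, rfl⟩ := IsLocalization.exists_mk'_eq p.asIdeal.primeCompl z
      refine Ideal.mem_map_of_mem _ ?_
      rw [IsLocalization.mk'_eq_mul_mk'_one]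
      refine Ideal.mul_mem_right _ _ (Ideal.mem_map_of_mem _ (hQR ?_))
      show π c ∈ P.asIdeal
      have h1 : π c = π t * Ideal.Quotient.mk NL (IsLocalization.mk' L c t) := by
        show Ideal.Quotient.mk NL _ = Ideal.Quotient.mk NL _ * Ideal.Quotient.mk NL _
        rw [← map_mul, IsLocalization.mk'_spec']
      rw [h1]
      exact Ideal.mul_mem_left _ _ hz
    haveI : (RA.map (Ideal.Quotient.mk P.asIdeal)).IsPrime :=
      Ideal.map_isPrime_of_surjective Ideal.Quotient.mk_surjective (by rw [Ideal.mk_ker]; exact hPR)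
    refine ⟨⟨RA.map (Ideal.Quotient.mk P.asIdeal), inferInstance⟩, congrArg _ (PrimeSpectrum.ext ?_)⟩
    show (RA.map (Ideal.Quotient.mk P.asIdeal)).comap ((Ideal.Quotient.mk P.asIdeal).comp π) = R.asIdeal
    rw [← Ideal.comap_comap, Ideal.comap_map_of_surjective _ Ideal.Quotient.mk_surjective,
      ← RingHom.ker_eq_comap_bot, Ideal.mk_ker, sup_eq_left.mpr hPR, ← Ideal.comap_comap, hRA, hRL]
  choose R hR using hlift
  have hRmono : ∀ a b : {w : Y | hV.fromSpec Q ⤳ w ∧ w ⤳ hV.fromSpec p}, a < b → R b.1 b.2 < R a.1 a.2 := by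
    intro a b hab
    let ψ := fun w : {w : Y | hV.fromSpec Q ⤳ w ∧ w ⤳ hV.fromSpec p} => (R w.1 w.2).comap ((Ideal.Quotient.mk P.asIdeal).comp π)
    have h1 : ψ b ≤ ψ a := (hle_iff _ _).mpr (by rw [hR, hR]; exact hab.le)
    have h2 : ¬ ψ a ≤ ψ b := fun h => hab.not_ge (by
      have h3 := (hle_iff _ _).mp h
      rw [hR, hR] at h3
      exact h3)
    -- primes of a domain with at most one nonzero prime are comparable
    haveI : IsLocalRing (A ⧸ P.asIdeal) := .of_surjective' (Ideal.Quotient.mk _) Ideal.Quotient.mk_surjective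
    haveI : IsDomain (A ⧸ P.asIdeal) := Ideal.Quotient.isDomain _
    haveI : Ring.KrullDimLE 1 (A ⧸ P.asIdeal) := (Ring.krullDimLE_iff).mpr (le_of_eq hPdim)
    by_cases hb : (R b.1 b.2).asIdeal = ⊥
    · refine lt_of_le_of_ne (show (R b.1 b.2).asIdeal ≤ (R a.1 a.2).asIdeal from hb.le.trans bot_le) fun h => h2 ?_
      show ψ a ≤ ψ b
      rw [show ψ a = ψ b from congrArg (PrimeSpectrum.comap _) h.symm]
    · exfalso
      have hbmax : (R b.1 b.2).asIdeal.IsMaximal :=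
        Ring.krullDimLE_one_iff_of_noZeroDivisors.mp ‹_› _ hb (R b.1 b.2).isPrime
      apply h2
      show ((R a.1 a.2).asIdeal.comap _) ≤ ((R b.1 b.2).asIdeal.comap _)
      refine Ideal.comap_mono ?_
      rw [IsLocalRing.eq_maximalIdeal hbmax]
      exact IsLocalRing.le_maximalIdeal (R a.1 a.2).isPrime.ne_top
  refine le_trans ?_ (le_of_eq hPdim)
  refine le_of_le_of_eq (Order.krullDim_le_of_strictMono
    (fun w => OrderDual.toDual (R w.1 w.2)) fun a b hab => hRmono a b hab) ?_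
  exact Order.krullDim_orderDual

variable {X Y : Scheme.{u}} (f : X ⟶ Y) [LocallyOfFiniteType f]

/-- Openness at `x` lifts generizations of the image. -/
theorem exists_gen_of_isOpenAt {x : X} (h : EGA43.IsOpenAt f.base x) {y' : Y} (hy' : y' ⤳ f x) :
    ∃ c, c ⤳ x ∧ f c = y' ∧ ∀ z, f z = y' → z ⤳ c → z = c := by
  obtain ⟨V, hxV, hV⟩ := exists_nhd_max f x y'
  obtain ⟨O, hOsub, hOo, hxO⟩ := mem_nhds_iff.mp (h V (V.isOpen.mem_nhds hxV))
  obtain ⟨w, hw, hwy⟩ := hOsub (hy'.mem_open hOo hxO)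
  obtain ⟨c, -, hcx, hfc, hc⟩ := hV w hw hwy
  exact ⟨c, hcx, hfc, hc⟩

/-- If `f` is open at a maximal point `x` of its fibre, over every generization of `f x` there is a generization
of `x` whose closure in its fibre is at least as big as that of `x`. -/
theorem exists_gen_dim_of_isOpenAt [IsLocallyNoetherian Y] {x : X} (h : EGA43.IsOpenAt f.base x)
    (hmax : ∀ z, f z = f x → z ⤳ x → z = x) {y' : Y} (hy' : y' ⤳ f x) :
    ∃ c, c ⤳ x ∧ f c = y' ∧ (∀ z, f z = y' → z ⤳ c → z = c) ∧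
      FlatMor.fibreDimAt f x ≤ Order.krullDim {z : X | f z = f c ∧ c ⤳ z} := by
  classical
  have hkdim : ∀ c : X, (∀ z, f z = f c → z ⤳ c → z = c) →
      FlatMor.fibreDimAt f c = Order.krullDim {z : X | f z = f c ∧ c ⤳ z} := fun c hc => by
    obtain ⟨n, m, hn, hm, hfd⟩ := FibSemi.fibreDimAt_eq_add f c
    have hn0 : n = 0 := by
      have h0 : Order.krullDim {z : X | f z = f c ∧ z ⤳ c} ≤ 0 := by
        haveI : Subsingleton {z : X | f z = f c ∧ z ⤳ c} :=
          ⟨fun a b => Subtype.ext ((hc _ a.2.1 a.2.2).trans (hc _ b.2.1 b.2.2).symm)⟩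
        exact Order.krullDim_nonpos_of_subsingleton
      rw [hn] at h0
      exact Nat.le_zero.mp (ENat.natCast_le_natCast.mp (WithBot.coe_le_coe.mp h0))
    subst hn0
    rw [zero_add] at hfd
    rw [hfd, hm]
  rcases eq_or_ne y' (f x) with rfl | hne
  · exact ⟨x, specializes_rfl, rfl, hmax, (hkdim x hmax).le⟩
  obtain ⟨-, d, -, -, hd⟩ : ∃ n d : ℕ, n = n ∧ d = d ∧ FlatMor.fibreDimAt f x = d := by
    obtain ⟨n, m, -, -, hfd⟩ := FibSemi.fibreDimAt_eq_add f x
    exact ⟨n, n + m, rfl, rfl, hfd⟩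
  rw [hd]
  -- the locus of large fibre dimension
  let C : Set X := {z | (d : WithBot ℕ∞) ≤ FlatMor.fibreDimAt f z}
  have hCcl : IsClosed C := by
    rcases Nat.eq_zero_or_pos d with h0 | h0
    · convert isClosed_univ (X := X)
      refine Set.eq_univ_of_forall fun z => ?_
      obtain ⟨n, m, -, -, hfd⟩ := FibSemi.fibreDimAt_eq_add f z
      show (d : WithBot ℕ∞) ≤ _
      rw [hfd, h0]
      exact_mod_cast Nat.zero_le _
    · obtain ⟨k, rfl⟩ : ∃ k, d = k + 1 := ⟨d - 1, by omega⟩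
      convert (FlatMisc.FibreDimScheme.isOpen_fibreDimAt_le (f := f) k).isClosed_compl using 1
      ext z
      obtain ⟨n, m, -, -, hfd⟩ := FibSemi.fibreDimAt_eq_add f z
      show ((k + 1 : ℕ) : WithBot ℕ∞) ≤ _ ↔ ¬ (_ ≤ (k : WithBot ℕ∞))
      rw [hfd]
      norm_cast
      omega
  obtain ⟨V₀, hxV₀, hV₀⟩ := exists_nhd_max f x y'
  obtain ⟨W, hW, hyW, -⟩ := exists_isAffineOpen_mem_and_subset (U := ⊤) (x := f x) trivial
  obtain ⟨V, hV, hxV, hVle⟩ := exists_isAffineOpen_mem_and_subset (x := x) (U := V₀ ⊓ f ⁻¹ᵁ W) ⟨hxV₀, hyW⟩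
  haveI : IsAffine (W : Scheme.{u}) := hW
  haveI : IsAffine (V : Scheme.{u}) := hV
  haveI : IsLocallyNoetherian (W : Scheme.{u}) := isLocallyNoetherian_of_isOpenImmersion W.ι
  obtain ⟨pW, hpW⟩ : ∃ pW : (V : Scheme.{u}) ⟶ W, pW ≫ W.ι = V.ι ≫ f :=
    ⟨IsOpenImmersion.lift W.ι (V.ι ≫ f) (by
      rintro _ ⟨s, rfl⟩
      rw [Scheme.Opens.range_ι, Scheme.Hom.comp_apply]
      exact (hVle s.2).2), IsOpenImmersion.lift_fac _ _ _⟩
  haveI : LocallyOfFiniteType pW := by
    haveI : LocallyOfFiniteType (pW ≫ W.ι) := by rw [hpW]; infer_instance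
    exact locallyOfFiniteType_of_comp pW W.ι
  haveI : LocallyOfFinitePresentation pW := LocallyOfFinitePresentation.iff_locallyOfFiniteType.mpr inferInstance
  haveI : IsLocallyNoetherian (V : Scheme.{u}) := LocallyOfFiniteType.isLocallyNoetherian pW
  haveI : IsNoetherian (V : Scheme.{u}) := {}
  have hval : ∀ s, W.ι (pW s) = f (V.ι s) := fun s => by
    rw [← Scheme.Hom.comp_apply, hpW, Scheme.Hom.comp_apply]
  let CV : Set (V : Scheme.{u}) := V.ι ⁻¹' C
  have hCV : IsConstructible CV := by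
    have ho : IsOpen CVᶜ := (hCcl.preimage V.ι.continuous).isOpen_compl
    have := IsCompact.isConstructible (NoetherianSpace.isCompact CVᶜ) ho
    simpa using this.compl
  have hE : IsConstructible (pW '' CV) := pW.isConstructible_image hCV
  obtain ⟨η', hη'⟩ : ∃ η' : (W : Scheme.{u}), W.ι η' = y' := ⟨⟨y', hy'.mem_open W.isOpen hyW⟩, rfl⟩
  -- `y'` is an image of the locus
  have hmem : η' ∈ pW '' CV := by
    by_contra hno
    have hnd : ¬ closure {η'} ⊆ closure (pW '' CV ∩ closure {η'}) := fun hd' => by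
      obtain ⟨O, hO, ⟨w, hwO, hwZ⟩, hsub⟩ :=
        ConstrLib.exists_open_subset_of_dense_constructible isIrreducible_singleton.closure hE hd'
      exact hno (hsub ⟨(specializes_iff_mem_closure.mpr hwZ).mem_open hO hwO, subset_closure rfl⟩)
    let O : Set Y := W.ι '' (closure (pW '' CV ∩ closure {η'}))ᶜ
    have hO : IsOpen O := W.ι.isOpenEmbedding.isOpenMap _ isClosed_closure.isOpen_compl
    have hη'O : y' ∈ O := ⟨η', fun hh => hnd (closure_minimal (Set.singleton_subset_iff.mpr hh) isClosed_closure), hη'⟩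
    have hxE : pW ⟨x, hxV⟩ ∈ pW '' CV ∩ closure {η'} := by
      refine ⟨Set.mem_image_of_mem _ (show (⟨x, hxV⟩ : (V : Scheme.{u})) ∈ CV from le_of_eq hd.symm),
        specializes_iff_mem_closure.mp ?_⟩
      rw [← W.ι.isEmbedding.specializes_iff, hη']
      exact hy'.trans (specializes_of_eq (show f x = W.ι (pW ⟨x, hxV⟩) from (hval ⟨x, hxV⟩).symm))
    have hyO : f x ∉ O := by
      rintro ⟨w, hw, hwx⟩
      rw [show w = pW ⟨x, hxV⟩ from W.ι.injective (hwx.trans (hval ⟨x, hxV⟩).symm)] at hw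
      exact hw (subset_closure hxE)
    obtain ⟨y₁, hy₁O, hηy₁, hy₁y, hdim1⟩ := exists_between_oneDim hy' O hO hη'O hyO
    obtain ⟨x₁, hx₁x, hfx₁, hx₁max⟩ := exists_gen_of_isOpenAt f h hy₁y
    obtain ⟨b, t, a, e, hb, ht, ha, he, hle⟩ := FibSemi.dim_inequality f hx₁x
    have ha1 : a ≤ 1 := by
      rw [hfx₁] at ha
      rw [ha] at hdim1
      exact_mod_cast hdim1
    have hb1 : 1 ≤ b := by
      have hne1 : x₁ ≠ x := fun hh => hyO (by rw [← hh, hfx₁]; exact hy₁O)
      let u₀ : {z : X | x₁ ⤳ z ∧ z ⤳ x} := ⟨x, hx₁x, specializes_rfl⟩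
      let u₁ : {z : X | x₁ ⤳ z ∧ z ⤳ x} := ⟨x₁, specializes_rfl, hx₁x⟩
      have h01 : u₀ < u₁ := ⟨hx₁x, fun hh => hne1 (hx₁x.antisymm (show x ⤳ x₁ from hh)).eq⟩
      let l : LTSeries {z : X | x₁ ⤳ z ∧ z ⤳ x} :=
        (RelSeries.singleton _ u₀).snoc u₁ h01
      have h3 := (Order.le_krullDim_iff.mpr ⟨l, rfl⟩).trans_eq hb
      exact_mod_cast h3
    have htd : t = d := by
      rw [← hkdim x hmax, hd] at ht
      exact_mod_cast ht.symm
    have he1 : d ≤ e := by omega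
    obtain ⟨x₁', hx₁'⟩ : ∃ x₁' : (V : Scheme.{u}), V.ι x₁' = x₁ := ⟨⟨x₁, hx₁x.mem_open V.isOpen hxV⟩, rfl⟩
    have hx₁C : x₁' ∈ CV := by
      show (d : WithBot ℕ∞) ≤ FlatMor.fibreDimAt f (V.ι x₁')
      rw [hx₁', hkdim x₁ (fun z hz => hx₁max z (hz.trans hfx₁)), he]
      exact_mod_cast he1
    obtain ⟨w, hw, hwy₁⟩ := hy₁O
    apply hw
    refine subset_closure ⟨?_, specializes_iff_mem_closure.mp ?_⟩
    · rw [show w = pW x₁' from W.ι.injective (by rw [hwy₁, hval, hx₁', hfx₁])]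
      exact Set.mem_image_of_mem _ hx₁C
    · rw [← W.ι.isEmbedding.specializes_iff, hη', hwy₁]
      exact hηy₁
  obtain ⟨u, hu, hpu⟩ := hmem
  have hfu : f (V.ι u) = y' := by rw [← hval, hpu, hη']
  obtain ⟨c, hcu, hfc, hcmax, n, m, e, -, -, hfd, hc, -⟩ := FibSemi.exists_max_fibre f (V.ι u)
  have hu' : (d : WithBot ℕ∞) ≤ Order.krullDim {z : X | f z = f c ∧ c ⤳ z} := by
    rw [hc, ← hfd]
    exact hu
  have hcV₀ : c ∈ V₀ := hcu.mem_open V₀.isOpen (hVle u.2).1
  obtain ⟨c', hc'c, hc'x, hfc', hc'max⟩ := hV₀ c hcV₀ (hfc.trans hfu)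
  rw [show c' = c from hcmax c' (by rw [hfc', hfu]) hc'c] at hc'x
  exact ⟨c, hc'x, hfc.trans hfu, fun z hz => hcmax z (hz.trans hfu.symm), hu'⟩

end Groth.Agent.GUOpen
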