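import Mathlib

/-!
Geometric points of the ring extended by a finite group of automorphisms are conjugate.
-/

set_option autoImplicit false
set_option linter.style.haveILetI false
universe u

noncomputable section

namespace Groth.Agent.GUOpen

/-- Two field-valued points agreeing on the invariants differ by an element of the group. -/
theorem exists_conj {R Ω : Type u} [CommRing R] [CommRing Ω] [IsDomain Ω] {G : Type u} [Group G] [Finite G]
    (σ : G → R →+* R) (h1σ : ∀ x, σ 1 x = x) (hσ : ∀ g h x, σ (g * h) x = σ g (σ h x)) (φ ψ : R →+* Ω)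
    (hinv : ∀ x, (∀ g, σ g x = x) → φ x = ψ x) : ∃ g, ∀ x, ψ x = φ (σ g x) := by
  classical
  haveI : Fintype G := Fintype.ofFinite G
  by_contra! hno
  choose x hx using hno
  let u : MvPolynomial G R := ∑ g, MvPolynomial.C (x g) * MvPolynomial.X g
  let S : G → MvPolynomial G R →+* MvPolynomial G R := fun h => MvPolynomial.map (σ h)
  let F : Polynomial (MvPolynomial G R) := ∏ h, (Polynomial.X - Polynomial.C (S h u))
  have hFinv : ∀ g, F.map (S g) = F := fun g => by
    rw [Polynomial.map_prod]
    refine Fintype.prod_bijective (fun h => g * h) (Group.mulLeft_bijective g) _ _ fun h => ?_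
    rw [Polynomial.map_sub, Polynomial.map_X, Polynomial.map_C]
    congr 2
    show MvPolynomial.map (σ g) (MvPolynomial.map (σ h) u) = MvPolynomial.map (σ (g * h)) u
    rw [MvPolynomial.map_map, show (σ g).comp (σ h) = σ (g * h) from RingHom.ext fun r => (hσ g h r).symm]
  have hF : F.map (MvPolynomial.map φ) = F.map (MvPolynomial.map ψ) := by
    ext n m
    rw [Polynomial.coeff_map, Polynomial.coeff_map, MvPolynomial.coeff_map, MvPolynomial.coeff_map]
    refine hinv _ fun g => ?_
    have h1 := congrArg (fun P => MvPolynomial.coeff m (Polynomial.coeff P n)) (hFinv g)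
    simp only [Polynomial.coeff_map, S, MvPolynomial.coeff_map] at h1
    exact h1
  have h0 : (F.map (MvPolynomial.map ψ)).eval (MvPolynomial.map ψ (S 1 u)) = 0 := by
    rw [Polynomial.eval_map_apply, Polynomial.eval_prod, map_prod]
    exact Finset.prod_eq_zero (Finset.mem_univ 1) (by simp)
  rw [← hF, Polynomial.map_prod, Polynomial.eval_prod, Finset.prod_eq_zero_iff] at h0
  obtain ⟨h, -, hh⟩ := h0
  simp only [Polynomial.map_sub, Polynomial.map_X, Polynomial.map_C, Polynomial.eval_sub, Polynomial.eval_X,
    Polynomial.eval_C, sub_eq_zero] at hh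
  have hcoef : ∀ g, ψ (σ 1 (x g)) = φ (σ h (x g)) := fun g => by
    have h1 := congrArg (MvPolynomial.coeff (Finsupp.single g 1)) hh
    simp only [S, MvPolynomial.coeff_map, u, MvPolynomial.coeff_sum, map_sum, map_mul, MvPolynomial.map_C,
      MvPolynomial.map_X, MvPolynomial.coeff_C_mul, MvPolynomial.coeff_X'] at h1
    simpa [Finsupp.single_eq_single_iff, Finset.sum_ite_eq'] using h1
  refine hx h ?_
  rw [← hcoef h, h1σ]

end Groth.Agent.GUOpen
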