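import Mathlib
import Groth.Agent.GUOpen.Transitive
import Groth.Agent.UH.Unibranch
import Groth.Agent.DimSpec.Core
import Groth.Agent.QSect.Core

/-!
EGA IV 14.4.1, algebraic core: over a geometrically unibranch point, an algebra which is integral near a
point over a polynomial ring lifts generizations after every base change to a domain.
-/

set_option autoImplicit false
set_option linter.style.haveILetI false
universe u
open MvPolynomial

noncomputable section

namespace Groth.Agent.GUOpen

/-- Points extend along integral injective extensions. -/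
theorem exists_extension {S R Ω : Type u} [CommRing S] [CommRing R] [Field Ω] [IsAlgClosed Ω]
    (i : S →+* R) (hi : Function.Injective i) (hint : i.IsIntegral) (η : S →+* Ω) :
    ∃ η' : R →+* Ω, η'.comp i = η := by
  letI := i.toAlgebra
  haveI : Algebra.IsIntegral S R := ⟨hint⟩
  let 𝔰 : Ideal S := RingHom.ker η
  haveI : 𝔰.IsPrime := RingHom.ker_isPrime η
  obtain ⟨𝔯, -, h𝔯, hover⟩ := Ideal.exists_ideal_over_prime_of_isIntegral 𝔰 (⊥ : Ideal R) (fun x hx => by
    have : i x = 0 := hx
    rw [show x = 0 from hi (this.trans (map_zero i).symm)]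
    exact zero_mem _)
  haveI := h𝔯
  letI : Algebra (S ⧸ 𝔰) (R ⧸ 𝔯) := (Ideal.quotientMap 𝔯 i hover.ge).toAlgebra
  haveI : IsScalarTower S (S ⧸ 𝔰) (R ⧸ 𝔯) := IsScalarTower.of_algebraMap_eq fun _ => rfl
  haveI : IsDomain (S ⧸ 𝔰) := Ideal.Quotient.isDomain _
  haveI : IsDomain (R ⧸ 𝔯) := Ideal.Quotient.isDomain _
  haveI : FaithfulSMul (S ⧸ 𝔰) (R ⧸ 𝔯) := (faithfulSMul_iff_algebraMap_injective _ _).mpr
    (Ideal.quotientMap_injective' (H := hover.ge) hover.le)
  haveI : Module.IsTorsionFree (S ⧸ 𝔰) (R ⧸ 𝔯) := Module.isTorsionFree_iff_faithfulSMul.mpr inferInstance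
  letI : Algebra (S ⧸ 𝔰) Ω := (Ideal.Quotient.lift 𝔰 η fun _ h => h).toAlgebra
  haveI : FaithfulSMul (S ⧸ 𝔰) Ω := (faithfulSMul_iff_algebraMap_injective _ _).mpr
    (RingHom.lift_injective_of_ker_le_ideal _ (fun _ h => h) (fun _ h => h))
  haveI : Module.IsTorsionFree (S ⧸ 𝔰) Ω := Module.isTorsionFree_iff_faithfulSMul.mpr inferInstance
  haveI : Algebra.IsIntegral (S ⧸ 𝔰) (R ⧸ 𝔯) := ⟨fun x => by
    obtain ⟨x, rfl⟩ := Ideal.Quotient.mk_surjective x
    exact ((Algebra.IsIntegral.isIntegral (R := S) x).map (Ideal.Quotient.mkₐ S 𝔯)).tower_top⟩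
  haveI : Algebra.IsAlgebraic (S ⧸ 𝔰) (R ⧸ 𝔯) := Algebra.IsIntegral.isAlgebraic
  let lft : (R ⧸ 𝔯) →ₐ[S ⧸ 𝔰] Ω := IsAlgClosed.lift
  refine ⟨lft.toRingHom.comp (Ideal.Quotient.mk 𝔯), RingHom.ext fun x => ?_⟩
  show lft (Ideal.Quotient.mk 𝔯 (i x)) = η x
  exact lft.commutes (Ideal.Quotient.mk 𝔰 x)

/-- An element fixed by all automorphisms of a normal extension is purely inseparable over the base. -/
theorem exists_pow_mem_of_fixed {F E : Type u} [Field F] [Field E] [Algebra F E] [Normal F E] (x : E)
    (hx : ∀ g : E ≃ₐ[F] E, g x = x) :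
    ∃ n : ℕ, x ^ ringExpChar F ^ n ∈ (algebraMap F E).range := by
  classical
  have halg : IsAlgebraic F x := (Normal.isIntegral (F := F) inferInstance x).isAlgebraic
  rw [← minpoly.natSepDegree_eq_one_iff_pow_mem (ringExpChar F)]
  rw [Polynomial.natSepDegree_eq_of_splits (E := E) _ (Normal.splits inferInstance x)]
  have h1 : ((minpoly F x).aroots E).toFinset = {x} := by
    ext y
    rw [Multiset.mem_toFinset, Polynomial.mem_aroots, Finset.mem_singleton]
    constructor
    · rintro ⟨-, hy⟩
      obtain ⟨g, hg⟩ := minpoly.exists_algEquiv_of_root' halg hy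
      rw [← hg, hx]
    · rintro rfl
      exact ⟨minpoly.ne_zero halg.isIntegral, minpoly.aeval F y⟩
  rw [h1, Finset.card_singleton]

section Main

variable {A B : Type u} [CommRing A] [IsDomain A] [CommRing B] [IsDomain B] [Algebra A B]
  [Algebra.FiniteType A B] {e : ℕ}

set_option maxHeartbeats 2000000 in
set_option synthInstance.maxHeartbeats 200000 in
theorem lift_valuation_aux (L : Type u) [Field L] [Algebra B L] [IsFractionRing B L] (a : Fin e → B)
    (ha : Function.Injective (aeval (R := A) a)) (p : Ideal A) [p.IsPrime]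
    (hgu : CAlg2.IsGeomUnibranch (Localization.AtPrime p)) (r : B)
    (hr : letI := (aeval (R := A) a).toRingHom.toAlgebra
      ∀ x, ∃ m, IsIntegral (MvPolynomial (Fin e) A) (r ^ m * x))
    {V : Type u} [CommRing V] [IsDomain V] (α : A →+* V) {Kx : Type u} [Field Kx] (χB : B →+* Kx)
    (χV : V →+* Kx) (hχ : χB.comp (algebraMap A B) = χV.comp α) (hχp : RingHom.ker (χV.comp α) = p)
    (hχr : χB r ≠ 0) :
    ∃ (Ω0 : Type u) (_ : Field Ω0) (V' : ValuationSubring Ω0) (k' : Type u) (_ : Field k') (π : V' →+* k')
      (ι : Kx →+* k') (β : B →+* V') (γ : V →+* V'),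
      RingHom.ker π = IsLocalRing.maximalIdeal V' ∧ Function.Injective γ ∧
      β.comp (algebraMap A B) = γ.comp α ∧ π.comp β = ι.comp χB ∧ π.comp γ = ι.comp χV := by
  classical
  let Sn := MvPolynomial (Fin e) A
  letI algSB : Algebra Sn B := (aeval (R := A) a).toRingHom.toAlgebra
  let K := FractionRing A
  letI : Algebra A L := ((algebraMap B L).comp (algebraMap A B)).toAlgebra
  haveI : IsScalarTower A B L := IsScalarTower.of_algebraMap_eq fun _ => rfl
  have hAB : Function.Injective (algebraMap A B) := fun u v huv => by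
    have := ha (a₁ := C u) (a₂ := C v) (by simpa using huv)
    exact C_injective _ _ this
  have hBL : Function.Injective (algebraMap B L) := IsFractionRing.injective B L
  have hAL : Function.Injective (algebraMap A L) := by
    rw [IsScalarTower.algebraMap_eq A B L]
    exact hBL.comp hAB
  let κ : K →+* L := IsFractionRing.lift hAL
  let At := integralClosure A K
  let Rt := MvPolynomial (Fin e) At
  let θ : Rt →+* L := eval₂Hom (κ.comp At.val.toRingHom) fun j => algebraMap B L (a j)
  let ι₀ : Sn →+* Rt := MvPolynomial.map (algebraMap A At)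
  have hθι : θ.comp ι₀ = (algebraMap B L).comp (algebraMap Sn B) := by
    refine MvPolynomial.ringHom_ext (fun c => ?_) (fun j => ?_)
    · show θ (MvPolynomial.map (algebraMap A At) (C c)) = algebraMap B L (aeval a (C c))
      rw [map_C, aeval_C]
      show eval₂ _ _ (C (algebraMap A At c)) = _
      rw [eval₂_C]
      show κ (algebraMap A K c) = _
      rw [IsFractionRing.lift_algebraMap, ← IsScalarTower.algebraMap_apply A B L]
    · show θ (MvPolynomial.map (algebraMap A At) (X j)) = algebraMap B L (aeval a (X j))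
      rw [map_X, aeval_X]
      exact eval₂_X _ _ _
  letI algSR : Algebra Sn Rt := ι₀.toAlgebra
  letI algRL : Algebra Rt L := θ.toAlgebra
  letI algSL : Algebra Sn L := (θ.comp ι₀).toAlgebra
  haveI : IsScalarTower Sn Rt L := IsScalarTower.of_algebraMap_eq fun _ => rfl
  haveI : IsScalarTower Sn B L := IsScalarTower.of_algebraMap_eq fun x => RingHom.congr_fun hθι x
  haveI hRint : Algebra.IsIntegral Sn Rt :=
    (inferInstance : @Algebra.IsIntegral (MvPolynomial (Fin e) A) (MvPolynomial (Fin e) At) _ _
      MvPolynomial.algebraMvPolynomial)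
  have hSL : Function.Injective (algebraMap Sn L) := by
    show Function.Injective (θ.comp ι₀)
    rw [hθι]
    exact hBL.comp ha
  have hθinj : Function.Injective θ := by
    rw [RingHom.injective_iff_ker_eq_bot]
    haveI : (RingHom.ker θ).IsPrime := RingHom.ker_isPrime θ
    refine Ideal.eq_bot_of_comap_eq_bot (R := Sn) (S := Rt) ?_
    show (RingHom.ker θ).comap ι₀ = ⊥
    rw [RingHom.comap_ker, ← RingHom.injective_iff_ker_eq_bot]
    exact hSL
  haveI : IsIntegrallyClosed At := integralClosure.isIntegrallyClosedOfFiniteExtension (K := K) (L := K)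
  haveI : IsIntegrallyClosed Rt := QSect.isIntegrallyClosed_mvPolynomial At e
  let KT := FractionRing Rt
  letI algKL : Algebra KT L := (IsFractionRing.lift (A := Rt) (K := KT) (L := L) (g := θ) hθinj).toAlgebra
  haveI : IsScalarTower Rt KT L := IsScalarTower.of_algebraMap_eq fun x =>
    (IsFractionRing.lift_algebraMap hθinj x).symm
  haveI : IsScalarTower Sn KT L := IsScalarTower.of_algebraMap_eq fun x => by
    rw [IsScalarTower.algebraMap_apply Sn Rt L, IsScalarTower.algebraMap_apply Rt KT L,
      ← IsScalarTower.algebraMap_apply Sn Rt KT]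
  have hrint : IsIntegral Sn r := by
    obtain ⟨m, hm⟩ := hr r
    rw [← pow_succ] at hm
    exact (IsIntegral.pow_iff m.succ_pos).mp hm
  have hr0 : r ≠ 0 := fun h => hχr (by rw [h, map_zero])
  -- `L` is finite over `KT`
  have hBint : ∀ b : B, IsIntegral KT (algebraMap B L b) := fun b => by
    obtain ⟨m, hm⟩ := hr b
    have h1 : IsIntegral KT (algebraMap B L (r ^ m * b)) := (hm.map (IsScalarTower.toAlgHom Sn B L)).tower_top
    have h2 : IsIntegral KT (algebraMap B L (r ^ m)) := ((hrint.pow m).map (IsScalarTower.toAlgHom Sn B L)).tower_top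
    have h3 : algebraMap B L (r ^ m) ≠ 0 := fun h => pow_ne_zero m hr0 (hBL (h.trans (map_zero _).symm))
    have h4 := h1.mul h2.inv
    rwa [map_mul, mul_comm (algebraMap B L (r ^ m)), mul_assoc, mul_inv_cancel₀ h3, mul_one] at h4
  haveI : FiniteDimensional KT L := by
    obtain ⟨s, hs⟩ := (Algebra.FiniteType.out : (⊤ : Subalgebra A B).FG)
    let F := IntermediateField.adjoin KT (algebraMap B L '' (s : Set B))
    haveI : FiniteDimensional KT F := by
      haveI : Finite ↥(algebraMap B L '' (s : Set B)) := (s.finite_toSet.image _).to_subtype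
      exact IntermediateField.finiteDimensional_adjoin (by rintro _ ⟨b, -, rfl⟩; exact hBint b)
    have hA : ∀ c : A, algebraMap B L (algebraMap A B c) ∈ F := fun c => by
      rw [show algebraMap A B c = algebraMap Sn B (C c) from (aeval_C a c).symm,
        ← IsScalarTower.algebraMap_apply Sn B L, IsScalarTower.algebraMap_apply Sn KT L]
      exact F.algebraMap_mem _
    have hBF : ∀ b : B, algebraMap B L b ∈ F := fun b => by
      have hb : b ∈ Algebra.adjoin A (s : Set B) := hs ▸ Algebra.mem_top
      induction hb using Algebra.adjoin_induction with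
      | mem b hb => exact IntermediateField.subset_adjoin _ _ ⟨b, hb, rfl⟩
      | algebraMap c => exact hA c
      | add b c _ _ h1 h2 => rw [map_add]; exact add_mem h1 h2
      | mul b c _ _ h1 h2 => rw [map_mul]; exact mul_mem h1 h2
    have htop : F = ⊤ := top_le_iff.mp fun x _ => by
      obtain ⟨b, c, -, rfl⟩ := IsFractionRing.div_surjective B x
      exact div_mem (hBF b) (hBF c)
    rw [htop] at this
    exact Module.Finite.equiv (IntermediateField.topEquiv (F := KT) (E := L)).toLinearEquiv
  -- a normal extension and its integral ring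
  let Lb := AlgebraicClosure L
  haveI : Algebra.IsAlgebraic KT Lb := Algebra.IsAlgebraic.trans KT L Lb
  haveI : IsAlgClosure KT Lb := ⟨inferInstance, inferInstance⟩
  haveI : Normal KT Lb := IsAlgClosure.normal KT Lb
  let E := IntermediateField.normalClosure KT L Lb
  haveI : FiniteDimensional KT E := inferInstanceAs (FiniteDimensional KT (IntermediateField.normalClosure KT L Lb))
  haveI : Normal KT E := normalClosure.normal KT L Lb
  let jE : L →ₐ[KT] E := (IsScalarTower.toAlgHom KT L Lb).codRestrict E.toSubalgebra fun x =>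
    AlgHom.fieldRange_le_normalClosure (IsScalarTower.toAlgHom KT L Lb) ⟨x, rfl⟩
  letI algRE : Algebra Rt E := ((algebraMap KT E).comp (algebraMap Rt KT)).toAlgebra
  haveI : IsScalarTower Rt KT E := IsScalarTower.of_algebraMap_eq fun _ => rfl
  let R' : Subalgebra Rt E := integralClosure Rt E
  letI : CommRing R' := Subalgebra.toCommRing (R := Rt) (A := E) R'
  have hjR : ∀ c : integralClosure Sn B, jE (algebraMap B L c) ∈ R' := fun c => by
    have h1 : IsIntegral Rt (algebraMap B L (c : B)) := (c.2.map (IsScalarTower.toAlgHom Sn B L)).tower_top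
    exact h1.map_of_comp_eq (RingHom.id Rt) jE.toRingHom (RingHom.ext fun t => by
      show algebraMap Rt E t = jE (algebraMap Rt L t)
      rw [IsScalarTower.algebraMap_apply Rt KT L, AlgHom.commutes]
      rfl)
  let jC : integralClosure Sn B →+* R' :=
    ((jE.toRingHom.comp (algebraMap B L)).comp (integralClosure Sn B).val.toRingHom).codRestrict R' hjR
  have hjC : Function.Injective jC := fun x y h =>
    Subtype.ext (hBL (jE.toRingHom.injective (congrArg Subtype.val h :)))
  let iS : Sn →+* R' := (algebraMap Rt R').comp ι₀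
  have hiS : RingHom.IsIntegral (R := Sn) (A := R') iS := by
    refine RingHom.IsIntegral.trans (R := Sn) (S := Rt) (T := R') ι₀ (algebraMap Rt R') ?_ ?_
    · exact hRint.isIntegral
    · exact fun x => Algebra.IsIntegral.isIntegral (R := Rt) x
  have hRE : Function.Injective (algebraMap Rt R') := fun x y h => by
    have h1 := congrArg Subtype.val h
    exact IsFractionRing.injective Rt KT ((algebraMap KT E).injective h1)
  have hιinj : Function.Injective ι₀ := fun x y h => hSL (show θ (ι₀ x) = θ (ι₀ y) by rw [h])
  have hCcomm : jC.comp (algebraMap Sn (integralClosure Sn B)) = iS := RingHom.ext fun x => Subtype.ext (by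
    show jE (algebraMap B L (algebraMap Sn B x)) = algebraMap KT E (algebraMap Rt KT (ι₀ x))
    rw [← IsScalarTower.algebraMap_apply Sn B L, IsScalarTower.algebraMap_apply Sn KT L]
    exact jE.commutes _)
  have hjint : jC.IsIntegral :=
    RingHom.IsIntegral.tower_top (algebraMap Sn (integralClosure Sn B)) jC (hCcomm ▸ hiS)
  -- the valuation ring
  let W := MvPolynomial (Fin e) V
  let ev : W →+* Kx := eval₂Hom χV fun j => χB (a j)
  let αW : Sn →+* W := MvPolynomial.map α
  have hev : ev.comp αW = χB.comp (algebraMap Sn B) := by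
    refine MvPolynomial.ringHom_ext (fun c => ?_) (fun j => ?_)
    · show eval₂ _ _ (MvPolynomial.map α (C c)) = χB (aeval a (C c))
      rw [map_C, eval₂_C, aeval_C]
      exact (RingHom.congr_fun hχ c).symm
    · show eval₂ _ _ (MvPolynomial.map α (X j)) = χB (aeval a (X j))
      rw [map_X, eval₂_X, aeval_X]
  let 𝔓 : Ideal W := RingHom.ker ev
  haveI : 𝔓.IsPrime := RingHom.ker_isPrime ev
  let Ω0 := AlgebraicClosure (FractionRing W)
  let w : W →+* Ω0 := (algebraMap (FractionRing W) Ω0).comp (algebraMap W (FractionRing W))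
  have hw : Function.Injective w := (algebraMap (FractionRing W) Ω0).injective.comp (IsFractionRing.injective W _)
  let g₀ : Localization.AtPrime 𝔓 →+* Ω0 := IsLocalization.lift (M := 𝔓.primeCompl) (g := w) fun s =>
    isUnit_iff_ne_zero.mpr fun h0 => s.2 (by rw [hw (h0.trans (map_zero w).symm)]; exact zero_mem _)
  obtain ⟨V', hV', hloc⟩ := IsLocalRing.exists_factor_valuationRing g₀
  let g₁ : Localization.AtPrime 𝔓 →+* V' := g₀.codRestrict V'.toSubring hV'
  haveI : IsLocalHom g₁ := hloc
  let γW : W →+* V' := g₁.comp (algebraMap W _)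
  have hγW : ∀ x, ((γW x : V') : Ω0) = w x := fun x => IsLocalization.lift_eq _ _
  let k₀ := IsLocalRing.ResidueField V'
  let i₀ : 𝔓.ResidueField →+* k₀ := IsLocalRing.ResidueField.map g₁
  let i₁ : 𝔓.ResidueField →+* Kx :=
    Ideal.ResidueField.lift 𝔓 ev le_rfl fun s hs =>
      show IsUnit (ev s) from isUnit_iff_ne_zero.mpr fun h0 => hs (RingHom.mem_ker.mpr h0)
  letI := i₀.toAlgebra
  letI := i₁.toAlgebra
  obtain ⟨Ω', _, iW, iY, hWY⟩ := DimSpec.exists_compositum 𝔓.ResidueField k₀ Kx
  let k' := AlgebraicClosure Ω'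
  let π : V' →+* k' := ((algebraMap Ω' k').comp iW).comp (IsLocalRing.residue V')
  let ιx : Kx →+* k' := (algebraMap Ω' k').comp iY
  have hπW : π.comp γW = ιx.comp ev := RingHom.ext fun x => by
    show algebraMap Ω' k' (iW (IsLocalRing.residue V' (g₁ (algebraMap W _ x)))) = algebraMap Ω' k' (iY (ev x))
    congr 1
    have h1 := hWY (IsLocalRing.residue _ (algebraMap W (Localization.AtPrime 𝔓) x))
    refine Eq.trans ?_ (h1.trans (congrArg iY ?_))
    · rfl
    · exact Ideal.ResidueField.lift_algebraMap _ ev _ _ x
  have hπker : RingHom.ker π = IsLocalRing.maximalIdeal V' := by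
    ext x
    rw [RingHom.mem_ker, ← IsLocalRing.residue_eq_zero_iff]
    exact map_eq_zero ((algebraMap Ω' k').comp iW)
  -- the two points of `R'`
  obtain ⟨η', hη'⟩ := exists_extension iS (hRE.comp hιinj) hiS (w.comp αW)
  have hη'V : ∀ x : R', η' x ∈ V' := fun x => by
    obtain ⟨f, hf, hfx⟩ := hiS x
    have h1 : IsIntegral V' (η' x) := by
      refine ⟨f.map (γW.comp αW), hf.map _, ?_⟩
      rw [Polynomial.eval₂_map, show (algebraMap V' Ω0).comp (γW.comp αW) = η'.comp iS from
        RingHom.ext fun s => (hγW (αW s)).trans (RingHom.congr_fun hη' s).symm, ← Polynomial.hom_eval₂, hfx,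
        map_zero]
    obtain ⟨y, hy⟩ := IsIntegrallyClosed.isIntegral_iff.mp h1
    exact hy ▸ y.2
  let η₁ : R' →+* V' := η'.codRestrict V'.toSubring hη'V
  let φ : R' →+* k' := π.comp η₁
  have hη₁S : η₁.comp iS = γW.comp αW := RingHom.ext fun s => Subtype.ext
    ((RingHom.congr_fun hη' s).trans (hγW (αW s)).symm)
  obtain ⟨ψ, hψ⟩ := exists_extension jC hjC hjint (ιx.comp (χB.comp (integralClosure Sn B).val.toRingHom))
  have hψS : ψ.comp iS = φ.comp iS := RingHom.ext fun t => by
    show ψ (iS t) = π (η₁ (iS t))
    have h := RingHom.congr_fun hψ (algebraMap Sn (integralClosure Sn B) t)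
    rw [RingHom.comp_apply, ← RingHom.comp_apply jC, hCcomm] at h
    refine h.trans ?_
    show ιx (χB (algebraMap Sn B t)) = π ((η₁.comp iS) t)
    rw [hη₁S]
    show _ = (π.comp γW) (αW t)
    rw [hπW]
    exact congrArg ιx (RingHom.congr_fun hev t).symm
  -- they agree on `Ã[T]`
  have hψR : ψ.comp (algebraMap Rt R') = φ.comp (algebraMap Rt R') := by
    refine MvPolynomial.ringHom_ext (fun c => ?_) (fun j => ?_)
    · have h := UH.eq_of_isGeomUnibranch (A := A) (R := Localization.AtPrime p) K p hgu
        ((ψ.comp (algebraMap Rt R')).comp (MvPolynomial.C (σ := Fin e) (R := At)))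
        ((φ.comp (algebraMap Rt R')).comp (MvPolynomial.C (σ := Fin e) (R := At)))
        (RingHom.ext fun c => by
          have h0 := RingHom.congr_fun hψS (C c)
          have e0 : ι₀ (C c) = C (algebraMap A At c) := MvPolynomial.map_C _ _
          simp only [iS, RingHom.comp_apply, e0] at h0
          exact h0)
        (by
          have h1 : ((ψ.comp (algebraMap Rt R')).comp (MvPolynomial.C (σ := Fin e) (R := At))).comp (algebraMap A At) =
              ιx.comp (χV.comp α) := RingHom.ext fun c => by
            have h0 := RingHom.congr_fun hψ (algebraMap Sn (integralClosure Sn B) (C c))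
            rw [RingHom.comp_apply, ← RingHom.comp_apply jC, hCcomm] at h0
            have e0 : ι₀ (C c) = C (algebraMap A At c) := MvPolynomial.map_C _ _
            simp only [iS, RingHom.comp_apply, e0] at h0
            refine Eq.trans h0 (congrArg ιx ?_)
            show χB (aeval a (C c)) = χV (α c)
            rw [aeval_C]
            exact RingHom.congr_fun hχ c
          rw [h1, RingHom.ker_comp_of_injective _ ιx.injective, hχp])
      exact RingHom.congr_fun h c
    · have h0 := RingHom.congr_fun hψS (X j)
      have e0 : ι₀ (X j) = X j := MvPolynomial.map_X _ _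
      simp only [iS, RingHom.comp_apply, e0] at h0
      exact h0
  -- hence they are conjugate
  haveI : Finite (E ≃ₐ[KT] E) := Finite.of_fintype _
  let σ : (E ≃ₐ[KT] E) → R' →+* R' := fun g =>
    ((g.toAlgHom.restrictScalars Rt).mapIntegralClosure).toRingHom
  obtain ⟨g, hg⟩ := exists_conj (G := E ≃ₐ[KT] E) σ (fun x => Subtype.ext rfl) (fun g h x => Subtype.ext rfl) φ ψ
    fun x hx => by
      obtain ⟨n, y, hy⟩ := exists_pow_mem_of_fixed (F := KT) (x : E) fun g => congrArg Subtype.val (hx g)
      set q := ringExpChar KT ^ n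
      have hyint : IsIntegral Rt y := by
        have h1 : IsIntegral Rt ((x : E) ^ q) := x.2.pow q
        rw [← hy] at h1
        exact (isIntegral_algebraMap_iff (algebraMap KT E).injective).mp h1
      obtain ⟨z, hz⟩ := IsIntegrallyClosed.isIntegral_iff.mp hyint
      have hxq : x ^ q = algebraMap Rt R' z := Subtype.ext (by
        show (x : E) ^ q = algebraMap KT E (algebraMap Rt KT z)
        rw [hz, hy])
      have hk : φ x ^ q = ψ x ^ q := by
        rw [← map_pow, ← map_pow, hxq]
        exact (RingHom.congr_fun hψR z).symm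
      haveI : ExpChar KT (ringExpChar KT) := inferInstance
      rcases (expChar_is_prime_or_one KT (ringExpChar KT)).symm with hp | hp
      · simpa [q, hp] using hk
      · haveI : Fact (ringExpChar KT).Prime := ⟨hp⟩
        haveI : CharP KT (ringExpChar KT) := ((fun q h hq => by
          cases h with
          | zero => exact absurd rfl hq.ne_one
          | prime _ => assumption) : ∀ q, ExpChar KT q → q.Prime → CharP KT q) _ inferInstance hp
        haveI : CharP Rt (ringExpChar KT) := (algebraMap Rt KT).charP (IsFractionRing.injective Rt KT) _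
        haveI : CharP k' (ringExpChar KT) :=
          CharP.of_ringHom_of_ne_zero (φ.comp (algebraMap Rt R')) _ hp.ne_zero
        haveI : ExpChar k' (ringExpChar KT) := ExpChar.prime hp
        exact iterateFrobenius_inj k' (ringExpChar KT) n (by
          rw [iterateFrobenius_def, iterateFrobenius_def]; exact hk)
  -- extend to `B`
  let h : integralClosure Sn B →+* V' := (η₁.comp (σ g)).comp jC
  have hh : π.comp h = ιx.comp (χB.comp (integralClosure Sn B).val.toRingHom) := by
    rw [← hψ]
    exact RingHom.ext fun c => (hg (jC c)).symm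
  let rC : integralClosure Sn B := ⟨r, hrint⟩
  have hrV : IsUnit (h rC) := by
    by_contra hu
    have h1 : π (h rC) = 0 := by
      rw [← RingHom.mem_ker, hπker]
      exact hu
    rw [← RingHom.comp_apply, hh] at h1
    exact hχr (ιx.injective (h1.trans (map_zero ιx).symm))
  have hbij : Function.Bijective (Localization.awayMap (integralClosure Sn B).val.toRingHom rC) :=
    ⟨IsLocalization.map_injective_of_injective _ _ _ Subtype.val_injective,
      Localization.awayMap_surjective_iff.mpr fun x => by
        obtain ⟨m, hm⟩ := hr x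
        exact ⟨⟨_, hm⟩, m, rfl⟩⟩
  let eC := RingEquiv.ofBijective _ hbij
  let hl : Localization.Away rC →+* V' := IsLocalization.Away.lift rC hrV
  let β : B →+* V' := hl.comp (eC.symm.toRingHom.comp (algebraMap B _))
  have hβC : ∀ c : integralClosure Sn B, β (c : B) = h c := fun c => by
    show hl (eC.symm (algebraMap B _ (c : B))) = h c
    rw [show algebraMap B (Localization.Away ((integralClosure Sn B).val.toRingHom rC)) (c : B) =
      eC (algebraMap (integralClosure Sn B) (Localization.Away rC) c) from by
        show _ = Localization.awayMap _ rC _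
        simp only [Localization.awayMap, IsLocalization.Away.map]
        rw [IsLocalization.map_eq]
        rfl, RingEquiv.symm_apply_apply]
    exact IsLocalization.Away.lift_eq _ _ _
  let γ : V →+* V' := γW.comp MvPolynomial.C
  refine ⟨Ω0, inferInstance, V', k', inferInstance, π, ιx, β, γ, hπker, fun x y hxy => ?_, ?_, ?_, ?_⟩
  · exact C_injective _ _ (hw ((hγW _).symm.trans ((congrArg Subtype.val hxy).trans (hγW _))))
  · refine RingHom.ext fun c => ?_
    show β (algebraMap A B c) = γW (C (α c))
    rw [show algebraMap A B c = ((algebraMap Sn (integralClosure Sn B) (C c) : integralClosure Sn B) : B) from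
      (aeval_C a c).symm, hβC]
    show η₁ (σ g (jC (algebraMap Sn (integralClosure Sn B) (C c)))) = _
    rw [← RingHom.comp_apply jC, hCcomm, show σ g (iS (C c)) = iS (C c) from
      AlgHom.commutes ((g.toAlgHom.restrictScalars Rt).mapIntegralClosure) (ι₀ (C c)), ← RingHom.comp_apply η₁,
      hη₁S]
    exact congrArg γW (map_C α c)
  · refine RingHom.ext fun b => ?_
    obtain ⟨m, hm⟩ := hr b
    have h1 : π (β (r ^ m * b)) = ιx (χB (r ^ m * b)) := by
      rw [show r ^ m * b = ((⟨_, hm⟩ : integralClosure Sn B) : B) from rfl, hβC]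
      exact RingHom.congr_fun hh _
    have h2 : π (β r) = ιx (χB r) := by
      rw [show r = (rC : B) from rfl, hβC]
      exact RingHom.congr_fun hh _
    simp only [map_mul, map_pow, h2] at h1
    exact mul_left_cancel₀ (pow_ne_zero m fun h0 => hχr (ιx.injective (h0.trans (map_zero ιx).symm))) h1
  · refine RingHom.ext fun x => ?_
    show π (γW (C x)) = ιx (χV x)
    rw [← RingHom.comp_apply, hπW]
    exact congrArg ιx (eval₂_C _ _ _)

end Main

end Groth.Agent.GUOpen
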