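import Mathlib
import Groth.Agent.EtStruct.UnibranchGlobal
import Groth.Agent.UnibrBir.Algebra

/-!
Geometrically unibranch localizations: the unique minimal prime, and the passage to the reduced quotient.
-/

set_option autoImplicit false
set_option linter.style.haveILetI false
universe u

noncomputable section

namespace Groth.Agent.GUOpen

/-- Invariance under ring isomorphisms, without domain hypotheses. -/
theorem isGeomUnibranch_congr {A B : Type u} [CommRing A] [IsLocalRing A] [CommRing B] [IsLocalRing B]
    (e : A ≃+* B) (h : CAlg2.IsGeomUnibranch A) : CAlg2.IsGeomUnibranch B := by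
  haveI : IsLocalRing (CAlg2.red B) := by
    haveI : Nontrivial (CAlg2.red B) := Ideal.Quotient.nontrivial_iff.mpr fun h0 => by
      have h1 : (1 : B) ∈ nilradical B := h0 ▸ Submodule.mem_top
      obtain ⟨n, hn⟩ := mem_nilradical.mp h1
      exact one_ne_zero ((one_pow n).symm.trans hn)
    exact .of_surjective' (Ideal.Quotient.mk _) Ideal.Quotient.mk_surjective
  let φ : A →+* CAlg2.red B := (Ideal.Quotient.mk (nilradical B)).comp e.toRingHom
  have hker : RingHom.ker φ = nilradical A := by
    ext a
    rw [RingHom.mem_ker, show φ a = Ideal.Quotient.mk (nilradical B) (e a) from rfl, Ideal.Quotient.eq_zero_iff_mem,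
      mem_nilradical, mem_nilradical]
    exact ⟨fun h => by simpa using h.map e.symm, fun h => h.map e⟩
  obtain ⟨hdom, hgu⟩ := EtStruct.isGeomUnibranch_of_surjective φ
    (Ideal.Quotient.mk_surjective.comp e.surjective) hker h
  exact (UnibrBir.isGeomUnibranch_red_iff B).mpr hgu

variable {R : Type u} [CommRing R] (p : Ideal R) [p.IsPrime]

/-- The prime under the nilradical of a unibranch localization lies in every prime below the point. -/
theorem exists_min_of_geomUnibranch (h : CAlg2.IsGeomUnibranch (Localization.AtPrime p)) :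
    ∃ N : Ideal R, N.IsPrime ∧ N ≤ p ∧ (∀ Q : Ideal R, Q.IsPrime → Q ≤ p → N ≤ Q) ∧
      N = (nilradical (Localization.AtPrime p)).comap (algebraMap R _) := by
  haveI : IsDomain (CAlg2.red (Localization.AtPrime p)) := h.1.1
  haveI hn : (nilradical (Localization.AtPrime p)).IsPrime := (Ideal.Quotient.isDomain_iff_prime _).mp h.1.1
  refine ⟨_, Ideal.comap_isPrime _ _, fun a ha => ?_, fun Q hQ hQp a ha => ?_, rfl⟩
  · have h1 : algebraMap R (Localization.AtPrime p) a ∈ IsLocalRing.maximalIdeal _ :=
      IsLocalRing.le_maximalIdeal hn.ne_top ha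
    rwa [IsLocalization.AtPrime.to_map_mem_maximal_iff _ p] at h1
  · haveI := hQ
    have hd : Disjoint (p.primeCompl : Set R) Q := Set.disjoint_left.mpr fun x hx hxQ => hx (hQp hxQ)
    haveI := IsLocalization.isPrime_of_isPrime_disjoint p.primeCompl (Localization.AtPrime p) Q hQ hd
    have h1 : algebraMap R (Localization.AtPrime p) a ∈ Q.map (algebraMap R (Localization.AtPrime p)) := by
      exact nilradical_le_prime _ ha
    have h2 : a ∈ (Q.map (algebraMap R (Localization.AtPrime p))).comap (algebraMap R _) := h1
    exact (IsLocalization.under_map_of_isPrime_disjoint p.primeCompl (Localization.AtPrime p) hQ hd).le h2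

/-- The localization of the quotient by the minimal prime is geometrically unibranch. -/
theorem geomUnibranch_quotient (h : CAlg2.IsGeomUnibranch (Localization.AtPrime p)) (N : Ideal R) [N.IsPrime]
    (hN : N ≤ p) (hmin : ∀ Q : Ideal R, Q.IsPrime → Q ≤ p → N ≤ Q)
    (p' : Ideal (R ⧸ N)) [p'.IsPrime] (hp' : p = p'.comap (Ideal.Quotient.mk N)) :
    CAlg2.IsGeomUnibranch (Localization.AtPrime p') := by
  classical
  let φ : Localization.AtPrime p →+* Localization.AtPrime p' :=
    Localization.localRingHom p p' (Ideal.Quotient.mk N) hp'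
  obtain ⟨N₀, hN₀, hN₀p, hN₀min, hN₀eq⟩ := exists_min_of_geomUnibranch p h
  have hNN : N = N₀ := le_antisymm (hmin N₀ hN₀ hN₀p) (hN₀min N ‹_› hN)
  have hsurj : Function.Surjective φ := fun z => by
    obtain ⟨x, s, rfl⟩ := IsLocalization.exists_mk'_eq p'.primeCompl z
    obtain ⟨a, rfl⟩ := Ideal.Quotient.mk_surjective x
    obtain ⟨b, hb⟩ := Ideal.Quotient.mk_surjective (s : R ⧸ N)
    have hbp : b ∉ p := fun hb' => s.2 (by
      rw [hp', Ideal.mem_comap, hb] at hb'
      exact hb')
    refine ⟨IsLocalization.mk' _ a (⟨b, hbp⟩ : p.primeCompl), ?_⟩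
    rw [Localization.localRingHom_mk']
    congr 1
    exact Subtype.ext hb
  have hker : RingHom.ker φ = nilradical (Localization.AtPrime p) := by
    refine le_antisymm (fun z hz => ?_) fun z hz => ?_
    · obtain ⟨a, s, rfl⟩ := IsLocalization.exists_mk'_eq p.primeCompl z
      rw [RingHom.mem_ker, Localization.localRingHom_mk', IsLocalization.mk'_eq_zero_iff] at hz
      obtain ⟨⟨t, ht⟩, hta⟩ := hz
      obtain ⟨b, rfl⟩ := Ideal.Quotient.mk_surjective t
      have hba : b * a ∈ N := by
        rw [← Ideal.Quotient.eq_zero_iff_mem, map_mul]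
        exact hta
      have hbN : b ∉ N := fun hb => ht (by
        show Ideal.Quotient.mk N b ∈ p'
        rw [Ideal.Quotient.eq_zero_iff_mem.mpr hb]
        exact zero_mem _)
      have haN : a ∈ N := ((‹N.IsPrime›).mem_or_mem hba).resolve_left hbN
      rw [hNN, hN₀eq, Ideal.mem_comap] at haN
      rw [IsLocalization.mk'_eq_mul_mk'_one]
      exact Ideal.mul_mem_right _ _ haN
    · haveI : IsDomain (Localization.AtPrime p') :=
        IsLocalization.isDomain_of_le_nonZeroDivisors _ p'.primeCompl_le_nonZeroDivisors
      exact ((mem_nilradical.mp hz).map φ).eq_zero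
  exact (EtStruct.isGeomUnibranch_of_surjective φ hsurj hker h).2

end Groth.Agent.GUOpen
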