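import Mathlib
import Groth.Agent.QSect.Alg

/-!
Noether normalization near a closed point of a fibre, relative to a domain.
-/

set_option autoImplicit false
set_option linter.style.haveILetI false
universe u

noncomputable section

namespace Groth.Agent.GUOpen

variable {A B : Type u} [CommRing A] [CommRing B] [Algebra A B]

/-- At a closed point of a fibre, the parameters cut out a quasi-finite point. -/
theorem quasiFiniteAt_params [IsNoetherianRing A] [Algebra.FiniteType A B] (P : Ideal B) [P.IsPrime] {e : ℕ}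
    (hmax : ∀ Q : Ideal B, Q.IsPrime → P ≤ Q → Q.comap (algebraMap A B) = P.comap (algebraMap A B) → Q = P)
    (a : Fin e → B) (haP : ∀ j, a j ∈ P)
    (hmin : ∀ Q : Ideal B, Q.IsPrime → Q.comap (algebraMap A B) = P.comap (algebraMap A B) → (∀ j, a j ∈ Q) →
      Q ≤ P → Q = P) :
    letI := (MvPolynomial.aeval (R := A) a).toRingHom.toAlgebra
    Algebra.QuasiFiniteAt (MvPolynomial (Fin e) A) P := by
  let S := MvPolynomial (Fin e) A
  letI algSB : Algebra S B := (MvPolynomial.aeval (R := A) a).toRingHom.toAlgebra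
  haveI : IsScalarTower A S B := IsScalarTower.of_algebraMap_eq fun c => (MvPolynomial.aeval_C a c).symm
  haveI : Algebra.FiniteType S B := .of_restrictScalars_finiteType A S B
  show Algebra.QuasiFiniteAt S P
  let P'' : PrimeSpectrum B := ⟨P, ‹_›⟩
  refine Algebra.QuasiFiniteAt.of_isOpen_singleton_fiber (R := S) P'' ?_
  let p' := P''.comap (algebraMap S B)
  haveI := p'.isPrime
  let H := PrimeSpectrum.preimageHomeomorphFiber S B p'
  haveI : IsNoetherianRing (p'.asIdeal.Fiber B) := Algebra.FiniteType.isNoetherianRing p'.asIdeal.ResidueField _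
  haveI : IsJacobsonRing (p'.asIdeal.Fiber B) := isJacobsonRing_of_finiteType (A := p'.asIdeal.ResidueField)
  rw [← H.isOpen_image, Set.image_singleton,
    (PrimeSpectrum.isOpen_singleton_tfae_of_isNoetherian_of_isJacobsonRing _).out 0 2 rfl rfl]
  have huniq : ∀ z : PrimeSpectrum.comap (algebraMap S B) ⁻¹' {p'}, z.1 ≤ P'' ∨ P'' ≤ z.1 → z.1 = P'' := by
    intro z hz
    have hz2 : z.1.asIdeal.comap (algebraMap S B) = P''.asIdeal.comap (algebraMap S B) :=
      congrArg PrimeSpectrum.asIdeal z.2
    have hQA : z.1.asIdeal.comap (algebraMap A B) = P.comap (algebraMap A B) := by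
      rw [IsScalarTower.algebraMap_eq A S B, ← Ideal.comap_comap, hz2, Ideal.comap_comap]
    have haQ : ∀ j, a j ∈ z.1.asIdeal := fun j => by
      have h1 : (MvPolynomial.X j : S) ∈ P''.asIdeal.comap (algebraMap S B) := by
        rw [Ideal.mem_comap, show algebraMap S B (MvPolynomial.X j) = a j from MvPolynomial.aeval_X a j]
        exact haP j
      rw [← hz2] at h1
      have h2 : MvPolynomial.aeval a (MvPolynomial.X j : S) ∈ z.1.asIdeal := h1
      rwa [MvPolynomial.aeval_X] at h2
    refine PrimeSpectrum.ext ?_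
    rcases hz with h | h
    · exact hmin _ z.1.isPrime hQA haQ h
    · exact hmax _ z.1.isPrime h hQA
  let E := PrimeSpectrum.preimageOrderIsoFiber S B p'
  have hHE : ∀ z, H z = E z := fun _ => rfl
  refine ⟨?_, ?_⟩
  · rw [PrimeSpectrum.isClosed_singleton_iff_isMaximal, ← PrimeSpectrum.isMax_iff]
    intro z hz
    obtain ⟨z, rfl⟩ := E.surjective z
    rw [hHE] at hz ⊢
    exact E.le_iff_le.mpr (huniq z (Or.inr (E.le_iff_le.mp hz))).le
  · intro x y hyx hx
    rw [Set.mem_singleton_iff] at hx ⊢
    subst hx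
    obtain ⟨z, rfl⟩ := E.surjective y
    rw [hHE]
    refine congrArg E (Subtype.ext (huniq z (Or.inl ?_)))
    exact E.le_iff_le.mp ((PrimeSpectrum.le_iff_specializes _ _).mpr hyx)

/-- Independent parameters together with the element of Zariski's main theorem. -/
theorem exists_params_zmt [IsNoetherianRing A] [IsDomain A] [IsDomain B] [FaithfulSMul A B]
    [Algebra.FiniteType A B] (P : Ideal B) [P.IsPrime] {e : ℕ}
    (hmax : ∀ Q : Ideal B, Q.IsPrime → P ≤ Q → Q.comap (algebraMap A B) = P.comap (algebraMap A B) → Q = P)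
    (hle : ∀ l : LTSeries (PrimeSpectrum B), (∀ i, (l i).asIdeal.comap (algebraMap A B) = P.comap (algebraMap A B)) →
      l.last.asIdeal = P → l.length ≤ e)
    (htr : (e : Cardinal.{u}) ≤ Algebra.trdeg A B) :
    ∃ a : Fin e → B, Function.Injective (MvPolynomial.aeval (R := A) a) ∧ ∃ r ∉ P,
      letI := (MvPolynomial.aeval (R := A) a).toRingHom.toAlgebra
      ∀ x, ∃ m, IsIntegral (MvPolynomial (Fin e) A) (r ^ m * x) := by
  classical
  obtain ⟨a, haP, hmin⟩ := QSect.exists_params (A := A) P hle
  let S := MvPolynomial (Fin e) A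
  letI algSB : Algebra S B := (MvPolynomial.aeval (R := A) a).toRingHom.toAlgebra
  haveI : IsScalarTower A S B := IsScalarTower.of_algebraMap_eq fun c => (MvPolynomial.aeval_C a c).symm
  haveI : Algebra.FiniteType S B := .of_restrictScalars_finiteType A S B
  haveI : Algebra.QuasiFiniteAt S P := quasiFiniteAt_params P hmax a haP hmin
  obtain ⟨r, hrP, hr⟩ := (Algebra.zariskisMainProperty_iff' (R := S)).mp
    (Algebra.ZariskisMainProperty.of_finiteType (R := S) P)
  refine ⟨a, ?_, r, hrP, hr⟩
  have hr0 : r ≠ 0 := fun h => hrP (h ▸ zero_mem _)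
  haveI : Algebra.IsAlgebraic (Algebra.adjoin A (Set.range a)) B := ⟨fun x => by
    obtain ⟨m, hm⟩ := hr x
    obtain ⟨n, hn⟩ := hr r
    rw [← pow_succ] at hn
    have hrint : IsIntegral S r := (IsIntegral.pow_iff n.succ_pos).mp hn
    let φ : S →+* Algebra.adjoin A (Set.range a) :=
      (MvPolynomial.aeval (R := A) a).toRingHom.codRestrict _ fun s => by
        rw [Algebra.adjoin_range_eq_range_aeval]
        exact ⟨s, rfl⟩
    have tr : ∀ y : B, IsIntegral S y → IsIntegral (Algebra.adjoin A (Set.range a)) y := by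
      rintro y ⟨f, hf, hfy⟩
      refine ⟨f.map φ, hf.map _, ?_⟩
      rw [Polynomial.eval₂_map]
      exact hfy
    have h1 : IsAlgebraic (Algebra.adjoin A (Set.range a)) (r ^ m * x) := (tr _ hm).isAlgebraic
    have h2 : IsAlgebraic (Algebra.adjoin A (Set.range a)) (r ^ m) := (tr _ (hrint.pow m)).isAlgebraic
    exact (IsAlgebraic.of_mul (mem_nonZeroDivisors_of_ne_zero (pow_ne_zero m hr0)) h2
      (mul_comm x (r ^ m) ▸ h1))⟩
  exact (Algebra.IsAlgebraic.isTranscendenceBasis_of_lift_le_trdeg_of_finite A a (by simpa using htr)).1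

end Groth.Agent.GUOpen
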