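import Mathlib
import Groth.Agent.GUOpen.Lift
import Groth.Agent.GUOpen.Local
import Groth.Agent.GUOpen.Params
import Groth.Agent.FibSemi.Dims
import Groth.Agent.UnivOpenDVR.Basic

/-!
EGA IV 14.4.1: universal openness over a geometrically unibranch point.
-/

set_option autoImplicit false
set_option linter.style.haveILetI false
universe u
open CategoryTheory AlgebraicGeometry Limits Topology

noncomputable section

namespace Groth.Agent.GUOpen

/-- A morphism from a spectrum with image in an affine open factors through its chart. -/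
theorem exists_appFactor {X : Scheme.{u}} {W : X.Opens} (hW : IsAffineOpen W) {R : Type u} [CommRing R]
    (m : Spec (CommRingCat.of R) ⟶ X) (hm : ∀ s, m s ∈ W) :
    ∃ φ : Γ(X, W) →+* R, Spec.map (CommRingCat.ofHom φ) ≫ hW.fromSpec = m := by
  let l := IsOpenImmersion.lift hW.fromSpec m (by
    rintro _ ⟨s, rfl⟩
    rw [hW.range_fromSpec]
    exact hm s)
  refine ⟨(Spec.preimage l).hom, ?_⟩
  rw [CommRingCat.ofHom_hom, Spec.map_preimage]
  exact IsOpenImmersion.lift_fac _ _ _

variable {X Y : Scheme.{u}} (f : X ⟶ Y)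

/-- Data at an affine chart turn into lifting of generizations along discrete valuation rings. -/
theorem isUnivOpenAt_of_lift [IsLocallyNoetherian Y] [LocallyOfFiniteType f] {V : Y.Opens} (hV : IsAffineOpen V)
    {W : X.Opens} (hW : IsAffineOpen W) (eW : W ≤ f ⁻¹ᵁ V) (x : X) (hxW : x ∈ W)
    (hlift : ∀ (R : Type u) [CommRing R] [IsDomain R] [IsDiscreteValuationRing R] (α : Γ(Y, V) →+* R)
      (Kx : Type u) [Field Kx] (χB : Γ(X, W) →+* Kx) (χV : R →+* Kx),
      χB.comp (f.appLE V W eW).hom = χV.comp α →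
      RingHom.ker χV = IsLocalRing.maximalIdeal R →
      hW.fromSpec ⟨RingHom.ker χB, RingHom.ker_isPrime χB⟩ = x →
      ∃ (Ω0 : Type u) (_ : Field Ω0) (V' : ValuationSubring Ω0) (k' : Type u) (_ : Field k') (π : V' →+* k')
        (ι : Kx →+* k') (β : Γ(X, W) →+* V') (γ : R →+* V'),
        RingHom.ker π = IsLocalRing.maximalIdeal V' ∧ Function.Injective γ ∧
        β.comp (f.appLE V W eW).hom = γ.comp α ∧ π.comp β = ι.comp χB ∧ π.comp γ = ι.comp χV) :
    EGA43.IsUnivOpenAt f x := by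
  refine (UnivOpenDVR.isUnivOpenAt_iff_dvr f x).mpr fun R _ _ _ g hg x' hx' hx'c => ?_
  have hfx : f x ∈ V := eW hxW
  obtain ⟨α, hα⟩ := exists_appFactor hV g fun s => by
    refine Specializes.mem_open ?_ V.isOpen (show f x ∈ (V : Set Y) from hfx)
    have h1 : s ⤳ IsLocalRing.closedPoint R := IsLocalRing.specializes_closedPoint s
    have h2 : g (IsLocalRing.closedPoint R) = f x := hg
    exact h2 ▸ h1.map g.continuous
  let Kx := (pullback f g).residueField x'
  let jx : Spec (CommRingCat.of Kx) ⟶ pullback f g := (pullback f g).fromSpecResidueField x'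
  have hjx : ∀ s, jx s = x' := fun s => Scheme.fromSpecResidueField_apply x' s
  obtain ⟨χB, hχB⟩ := exists_appFactor hW (jx ≫ pullback.fst f g) fun s => by
    rw [Scheme.Hom.comp_apply, hjx]
    show (pullback.fst f g).base x' ∈ W
    rw [hx']
    exact hxW
  obtain ⟨χV, hχV⟩ : ∃ χV : R →+* Kx, Spec.map (CommRingCat.ofHom χV) = jx ≫ pullback.snd f g :=
    ⟨(Spec.preimage (jx ≫ pullback.snd f g)).hom, by rw [CommRingCat.ofHom_hom, Spec.map_preimage]⟩
  have hχ : χB.comp (f.appLE V W eW).hom = χV.comp α := by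
    have h1 : Spec.map (CommRingCat.ofHom (χB.comp (f.appLE V W eW).hom)) ≫ hV.fromSpec =
        Spec.map (CommRingCat.ofHom (χV.comp α)) ≫ hV.fromSpec := by
      have e0 : Spec.map (CommRingCat.ofHom (f.appLE V W eW).hom) ≫ hV.fromSpec = hW.fromSpec ≫ f :=
        IsAffineOpen.SpecMap_appLE_fromSpec f hV hW eW
      rw [CommRingCat.ofHom_comp, CommRingCat.ofHom_comp, Spec.map_comp, Spec.map_comp,
        Category.assoc, Category.assoc, e0, hα, ← Category.assoc,
        hχB, hχV, Category.assoc, Category.assoc, pullback.condition]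
    rw [cancel_mono] at h1
    exact congrArg CommRingCat.Hom.hom (Spec.map_injective h1)
  let pt : Spec (CommRingCat.of Kx) := (⟨⊥, Ideal.isPrime_bot⟩ : PrimeSpectrum Kx)
  have hker : RingHom.ker χV = IsLocalRing.maximalIdeal R := by
    have h1 : Spec.map (CommRingCat.ofHom χV) pt = IsLocalRing.closedPoint R := by
      rw [hχV, Scheme.Hom.comp_apply, hjx]
      exact hx'c
    exact congrArg PrimeSpectrum.asIdeal h1
  have hxker : hW.fromSpec ⟨RingHom.ker χB, RingHom.ker_isPrime χB⟩ = x := by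
    have h1 : (Spec.map (CommRingCat.ofHom χB) ≫ hW.fromSpec) pt = x := by
      rw [hχB, Scheme.Hom.comp_apply, hjx]
      exact hx'
    exact h1
  obtain ⟨Ω0, _, V', k', _, π, ι, β, γ, hπ, hγ, hβγ, hπβ, hπγ⟩ := hlift R α Kx χB χV hχ hker hxker
  have hw : (Spec.map (CommRingCat.ofHom β) ≫ hW.fromSpec) ≫ f = Spec.map (CommRingCat.ofHom γ) ≫ g := by
    rw [← hα, Category.assoc, ← IsAffineOpen.SpecMap_appLE_fromSpec f hV hW eW, ← Category.assoc, ← Category.assoc,
      ← Spec.map_comp, ← Spec.map_comp]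
    congr 2
    exact CommRingCat.hom_ext hβγ
  let m : Spec (CommRingCat.of V') ⟶ pullback f g :=
    pullback.lift (Spec.map (CommRingCat.ofHom β) ≫ hW.fromSpec) (Spec.map (CommRingCat.ofHom γ)) hw
  have hm : Spec.map (CommRingCat.ofHom π) ≫ m = Spec.map (CommRingCat.ofHom ι) ≫ jx := by
    apply pullback.hom_ext
    · rw [Category.assoc, Category.assoc, pullback.lift_fst, ← hχB, ← Category.assoc, ← Category.assoc,
        ← Spec.map_comp, ← Spec.map_comp]
      congr 2
      exact CommRingCat.hom_ext hπβ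
    · rw [Category.assoc, Category.assoc, pullback.lift_snd, ← hχV, ← Spec.map_comp, ← Spec.map_comp]
      congr 1
      exact CommRingCat.hom_ext hπγ
  let pt' : Spec (CommRingCat.of k') := (⟨⊥, Ideal.isPrime_bot⟩ : PrimeSpectrum k')
  let gen : Spec (CommRingCat.of V') := (⟨⊥, Ideal.isPrime_bot⟩ : PrimeSpectrum V')
  refine ⟨m gen, ?_, ?_⟩
  · have h1 : (Spec.map (CommRingCat.ofHom π) ≫ m) pt' = x' := by
      rw [hm, Scheme.Hom.comp_apply]
      exact hjx _
    rw [← h1, Scheme.Hom.comp_apply]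
    refine Specializes.map ?_ m.continuous
    exact (PrimeSpectrum.le_iff_specializes (⟨⊥, Ideal.isPrime_bot⟩ : PrimeSpectrum V') _).mp bot_le
  · show pullback.snd f g (m gen) ≠ _
    rw [← Scheme.Hom.comp_apply, pullback.lift_snd]
    intro h
    have h1 : (⊥ : Ideal V').comap γ = IsLocalRing.maximalIdeal R := congrArg PrimeSpectrum.asIdeal h
    rw [Ideal.comap_bot_of_injective _ hγ] at h1
    exact IsDiscreteValuationRing.not_isField R (IsLocalRing.isField_iff_maximalIdeal_eq.mpr h1.symm)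

/-- EGA IV 14.4.1 (b ⇒ a): if the fibre of the closure of `ξ` near `x` is no bigger than its generic fibre and
the image of `x` is geometrically unibranch, then `f` is universally open at `x`. -/
theorem isUnivOpenAt_of_dim [IsLocallyNoetherian Y] [LocallyOfFiniteType f] {ξ x : X} (hξx : ξ ⤳ x)
    (hη : ∀ y' : Y, y' ⤳ f ξ → y' = f ξ) (hy : CAlg2.IsGeomUnibranch (Y.presheaf.stalk (f x))) {e : ℕ}
    (he : Order.krullDim {z : X | f z = f ξ ∧ ξ ⤳ z} = e) (U : X.Opens) (hxU : x ∈ U)
    (hdim : Order.krullDim {z : X | f z = f x ∧ ξ ⤳ z ∧ z ∈ U} ≤ e) : EGA43.IsUnivOpenAt f x := by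
  classical
  obtain ⟨V, hV, hyV, -⟩ := exists_isAffineOpen_mem_and_subset (U := ⊤) (x := f x) trivial
  obtain ⟨W, hW, hxW, eWsub⟩ := exists_isAffineOpen_mem_and_subset (U := U ⊓ f ⁻¹ᵁ V) (x := x) ⟨hxU, hyV⟩
  have eW : W ≤ f ⁻¹ᵁ V := fun w hw => (eWsub hw).2
  have hWU : ∀ w ∈ W, w ∈ U := fun w hw => (eWsub hw).1
  letI algAB : Algebra Γ(Y, V) Γ(X, W) := (f.appLE V W eW).hom.toAlgebra
  haveI : Algebra.FiniteType Γ(Y, V) Γ(X, W) := LocallyOfFiniteType.finiteType_appLE f hV hW eW
  haveI : IsNoetherianRing Γ(Y, V) := IsLocallyNoetherian.component_noetherian ⟨V, hV⟩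
  have hle_iff : ∀ a b : PrimeSpectrum Γ(X, W), a ≤ b ↔ hW.fromSpec a ⤳ hW.fromSpec b := fun a b =>
    (PrimeSpectrum.le_iff_specializes a b).trans hW.fromSpec.isOpenEmbedding.isEmbedding.specializes_iff.symm
  have hle_iffY : ∀ a b : PrimeSpectrum Γ(Y, V), a ≤ b ↔ hV.fromSpec a ⤳ hV.fromSpec b := fun a b =>
    (PrimeSpectrum.le_iff_specializes a b).trans hV.fromSpec.isOpenEmbedding.isEmbedding.specializes_iff.symm
  have hover : ∀ a b : PrimeSpectrum Γ(X, W),
      f (hW.fromSpec a) = f (hW.fromSpec b) ↔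
        a.asIdeal.comap (algebraMap Γ(Y, V) Γ(X, W)) = b.asIdeal.comap (algebraMap Γ(Y, V) Γ(X, W)) := fun a b => by
    rw [DimSpec.app_fromSpec hV hW eW, DimSpec.app_fromSpec hV hW eW]
    exact hV.fromSpec.isOpenEmbedding.injective.eq_iff.trans PrimeSpectrum.ext_iff
  obtain ⟨z, hzW, hxz, hfz, hzcl⟩ := FibSemi.exists_closed_in_fibre f x W hxW
  obtain ⟨P, hP⟩ := DimSpec.exists_fromSpec hW hxW
  obtain ⟨Pz, hPz⟩ := DimSpec.exists_fromSpec hW hzW
  obtain ⟨q, hq⟩ := DimSpec.exists_fromSpec hW (hξx.mem_open W.isOpen hxW)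
  have hqP : q ≤ P := (hle_iff q P).mpr (by rw [hq, hP]; exact hξx)
  have hPPz : P ≤ Pz := (hle_iff P Pz).mpr (by rw [hP, hPz]; exact hxz)
  let p : PrimeSpectrum Γ(Y, V) := P.comap (algebraMap Γ(Y, V) Γ(X, W))
  let N : PrimeSpectrum Γ(Y, V) := q.comap (algebraMap Γ(Y, V) Γ(X, W))
  haveI := q.isPrime; haveI := P.isPrime; haveI := Pz.isPrime; haveI := p.isPrime; haveI := N.isPrime
  have hNp : N ≤ p := Ideal.comap_mono hqP
  have hfp : hV.fromSpec p = f x := by rw [← hP, DimSpec.app_fromSpec hV hW eW]; rfl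
  have hfN : hV.fromSpec N = f ξ := by rw [← hq, DimSpec.app_fromSpec hV hW eW]; rfl
  -- unibranch localization
  have hgu : CAlg2.IsGeomUnibranch (Localization.AtPrime p.asIdeal) := by
    letI : Algebra Γ(Y, V) (Y.presheaf.stalk (f x)) := Y.presheaf.algebra_section_stalk ⟨f x, hyV⟩
    haveI : IsLocalization.AtPrime (Y.presheaf.stalk (f x)) p.asIdeal := by
      have h := hV.isLocalization_stalk ⟨f x, hyV⟩
      have hpe : hV.primeIdealOf ⟨f x, hyV⟩ = p := hV.fromSpec.isOpenEmbedding.injective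
        ((hV.fromSpec_primeIdealOf ⟨f x, hyV⟩).trans hfp.symm)
      rwa [hpe] at h
    let e₁ : Y.presheaf.stalk (f x) ≃+* Localization.AtPrime p.asIdeal :=
      (IsLocalization.algEquiv p.asIdeal.primeCompl (Y.presheaf.stalk (f x)) (Localization.AtPrime p.asIdeal)).toRingEquiv
    exact isGeomUnibranch_congr e₁ hy
  have hminN : ∀ Q : Ideal Γ(Y, V), Q.IsPrime → Q ≤ p.asIdeal → N.asIdeal ≤ Q := by
    obtain ⟨N₀, hN₀, hN₀p, hN₀min, -⟩ := exists_min_of_geomUnibranch p.asIdeal hgu
    intro Q hQ hQp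
    suffices hNN : N.asIdeal = N₀ from hNN ▸ hN₀min Q hQ hQp
    have h0 : (⟨N₀, hN₀⟩ : PrimeSpectrum Γ(Y, V)) ≤ N := hN₀min _ N.isPrime hNp
    have h1 := hη _ (hfN ▸ (hle_iffY _ _).mp h0)
    rw [← hfN] at h1
    exact (congrArg PrimeSpectrum.asIdeal (hV.fromSpec.isOpenEmbedding.injective h1)).symm
  -- the domains
  let A' := Γ(Y, V) ⧸ N.asIdeal
  let B' := Γ(X, W) ⧸ q.asIdeal
  letI algAB' : Algebra A' B' := (Ideal.quotientMap q.asIdeal (algebraMap Γ(Y, V) Γ(X, W)) le_rfl).toAlgebra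
  haveI : IsScalarTower Γ(Y, V) A' B' := IsScalarTower.of_algebraMap_eq fun _ => rfl
  haveI : IsDomain A' := Ideal.Quotient.isDomain _
  haveI : IsDomain B' := Ideal.Quotient.isDomain _
  haveI : FaithfulSMul A' B' := (faithfulSMul_iff_algebraMap_injective _ _).mpr
    (Ideal.quotientMap_injective' (H := le_rfl) le_rfl)
  haveI : Algebra.FiniteType Γ(Y, V) B' :=
    .of_surjective (Ideal.Quotient.mkₐ _ q.asIdeal) Ideal.Quotient.mk_surjective
  haveI : Algebra.FiniteType A' B' := .of_restrictScalars_finiteType Γ(Y, V) A' B'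
  let p' : Ideal A' := p.asIdeal.map (Ideal.Quotient.mk N.asIdeal)
  haveI : p'.IsPrime := Ideal.map_isPrime_of_surjective Ideal.Quotient.mk_surjective (by rw [Ideal.mk_ker]; exact hNp)
  have hp' : p.asIdeal = p'.comap (Ideal.Quotient.mk N.asIdeal) := by
    rw [Ideal.comap_map_of_surjective _ Ideal.Quotient.mk_surjective, ← RingHom.ker_eq_comap_bot, Ideal.mk_ker,
      sup_eq_left.mpr hNp]
  let Pz' : Ideal B' := Pz.asIdeal.map (Ideal.Quotient.mk q.asIdeal)
  haveI : Pz'.IsPrime := Ideal.map_isPrime_of_surjective Ideal.Quotient.mk_surjective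
    (by rw [Ideal.mk_ker]; exact hqP.trans hPPz)
  have hPz' : Pz'.comap (Ideal.Quotient.mk q.asIdeal) = Pz.asIdeal := by
    rw [Ideal.comap_map_of_surjective _ Ideal.Quotient.mk_surjective, ← RingHom.ker_eq_comap_bot, Ideal.mk_ker,
      sup_eq_left.mpr (hqP.trans hPPz)]
  have hfz' : Pz.asIdeal.comap (algebraMap Γ(Y, V) Γ(X, W)) = p.asIdeal :=
    (hover Pz P).mp (by rw [hPz, hP, hfz])
  have hcomm : ∀ Q : Ideal B', (Q.comap (algebraMap A' B')).comap (Ideal.Quotient.mk N.asIdeal) =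
      (Q.comap (Ideal.Quotient.mk q.asIdeal)).comap (algebraMap Γ(Y, V) Γ(X, W)) := fun Q => by
    rw [Ideal.comap_comap, Ideal.comap_comap]
    rfl
  have hPz'p : Pz'.comap (algebraMap A' B') = p' :=
    Ideal.comap_injective_of_surjective _ Ideal.Quotient.mk_surjective (by rw [hcomm, hPz', hfz', ← hp'])
  -- parameters
  obtain ⟨m, hm⟩ : ∃ m : ℕ, Algebra.trdeg A' B' = m := by
    haveI : Pz'.LiesOver p' := ⟨hPz'p.symm⟩
    obtain ⟨-, -, -, m, -, -, -, hm, -⟩ := CycLib.height_add_trdeg (A := A') (S := B') p' Pz'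
    exact ⟨m, hm⟩
  have hme : m = e := by
    have h1 := FibSemi.krullDim_specs f hV hW eW q N.asIdeal rfl m hm
    rw [hq, he] at h1
    exact_mod_cast h1.symm
  subst hme
  obtain ⟨a, ha, r, hr, hrint⟩ := exists_params_zmt (A := A') (B := B') Pz' (e := m)
    (fun Q hQ hPQ hQA => by
      have h1 : Q.comap (Ideal.Quotient.mk q.asIdeal) = Pz.asIdeal := by
        have h2 := hzcl (hW.fromSpec ⟨_, Ideal.comap_isPrime _ Q⟩) (by
          rw [← hPz]
          refine (hover _ Pz).mpr ?_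
          show (Q.comap (Ideal.Quotient.mk q.asIdeal)).comap _ = _
          rw [← hcomm, hQA, hcomm, hPz']) (by
          rw [← hPz]
          exact (hle_iff Pz _).mp (hPz'.ge.trans (Ideal.comap_mono hPQ)))
        rw [← hPz] at h2
        exact congrArg PrimeSpectrum.asIdeal (hW.fromSpec.isOpenEmbedding.injective h2)
      exact Ideal.comap_injective_of_surjective _ Ideal.Quotient.mk_surjective (h1.trans hPz'.symm))
    (fun l hl hlast => by
      let w : Fin (l.length + 1) → PrimeSpectrum Γ(X, W) := fun j => (l j.rev).comap (Ideal.Quotient.mk q.asIdeal)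
      have hw : StrictMono fun j : Fin (l.length + 1) =>
          (⟨hW.fromSpec (w j), by
            rw [← hfz, ← hPz]
            refine (hover _ Pz).mpr ?_
            show ((l j.rev).asIdeal.comap (Ideal.Quotient.mk q.asIdeal)).comap _ = _
            rw [← hcomm, hl, hcomm, hPz'], by
            rw [← hq]
            refine (hle_iff q (w j)).mp fun c hc => ?_
            show Ideal.Quotient.mk q.asIdeal c ∈ (l j.rev).asIdeal
            rw [Ideal.Quotient.eq_zero_iff_mem.mpr hc]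
            exact zero_mem _, hWU _ (by
            have : hW.fromSpec (w j) ∈ Set.range hW.fromSpec := ⟨_, rfl⟩
            rwa [hW.range_fromSpec] at this)⟩ :
            {v : X | f v = f x ∧ ξ ⤳ v ∧ v ∈ U}) := fun i j hij => by
        have h0 := l.strictMono (Fin.rev_lt_rev.mpr hij)
        refine lt_of_le_not_ge ((hle_iff _ _).mp (Ideal.comap_mono h0.le)) fun h => h0.not_ge ?_
        exact (Ideal.comap_le_comap_iff_of_surjective _ Ideal.Quotient.mk_surjective _ _).mp ((hle_iff _ _).mpr h)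
      have h2 := (Order.le_krullDim_iff.mpr ⟨LTSeries.mk l.length _ hw, rfl⟩).trans hdim
      exact_mod_cast h2)
    (le_of_eq hm.symm)
  obtain ⟨r, rfl⟩ := Ideal.Quotient.mk_surjective r
  have hrP : r ∉ P.asIdeal := fun h => hr (Ideal.mem_map_of_mem _ (hPPz h))
  refine isUnivOpenAt_of_lift f hV hW eW x hxW fun R _ _ _ α Kx _ χB χV hχ hker hxker => ?_
  have hkB : RingHom.ker χB = P.asIdeal := congrArg PrimeSpectrum.asIdeal
    (hW.fromSpec.isOpenEmbedding.injective (hxker.trans hP.symm))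
  have hkA : (RingHom.ker χV).comap α = p.asIdeal := by
    rw [RingHom.comap_ker, ← hχ, ← RingHom.comap_ker, hkB]
    rfl
  have hαN : ∀ c ∈ N.asIdeal, α c = 0 := fun c hc => by
    haveI : (RingHom.ker α).IsPrime := RingHom.ker_isPrime α
    refine RingHom.mem_ker.mp (hminN _ inferInstance (fun a ha => ?_) hc)
    rw [← hkA, Ideal.mem_comap, RingHom.mem_ker.mp ha]
    exact zero_mem _
  let α' : A' →+* R := Ideal.Quotient.lift N.asIdeal α hαN
  have hqker : ∀ c ∈ q.asIdeal, χB c = 0 := fun c hc => RingHom.mem_ker.mp (hkB ▸ hqP hc)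
  let χB' : B' →+* Kx := Ideal.Quotient.lift q.asIdeal χB hqker
  have hgu' : CAlg2.IsGeomUnibranch (Localization.AtPrime p') :=
    geomUnibranch_quotient p.asIdeal hgu N.asIdeal hNp hminN p' hp'
  have hχ' : χB'.comp (algebraMap A' B') = χV.comp α' := Ideal.Quotient.ringHom_ext hχ
  have hχp : RingHom.ker (χV.comp α') = p' := by
    refine Ideal.comap_injective_of_surjective _ (Ideal.Quotient.mk_surjective (I := N.asIdeal)) ?_
    rw [RingHom.comap_ker, ← hp', ← hkA, RingHom.comap_ker]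
    rfl
  obtain ⟨Ω0, i0, V', k', i1, π, ι, β', γ, hπ, hγ, h1, h2, h3⟩ := lift_valuation_aux (FractionRing B') a ha p' hgu'
    (Ideal.Quotient.mk q.asIdeal r) hrint α' χB' χV hχ' hχp (fun h => hrP (by rw [← hkB]; exact h))
  refine ⟨Ω0, i0, V', k', i1, π, ι, β'.comp (Ideal.Quotient.mk q.asIdeal), γ, hπ, hγ, ?_, ?_, h3⟩
  · exact RingHom.ext fun c => RingHom.congr_fun h1 (Ideal.Quotient.mk N.asIdeal c)
  · exact RingHom.ext fun c => RingHom.congr_fun h2 (Ideal.Quotient.mk q.asIdeal c)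

end Groth.Agent.GUOpen
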