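import Mathlib
import Groth.Agent.GUOpen.Main
import Groth.Agent.GUOpen.Converse
import Groth.Agent.OpenAt.Basic

/-!
The dimension criteria for universal openness over geometrically unibranch points, in the shape of the milestones.
-/

set_option autoImplicit false
set_option linter.style.haveILetI false
universe u
open CategoryTheory AlgebraicGeometry Limits Topology TopologicalSpace

noncomputable section

namespace Groth.Agent.GUOpen

variable {X Y : Scheme.{u}} (f : X ⟶ Y)

/-- Universal openness at a point implies openness there. -/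
theorem isOpenAt_of_univ {x : X} (h : EGA43.IsUnivOpenAt f x) : EGA43.IsOpenAt f.base x := by
  have sq : IsPullback (𝟙 X) f f (𝟙 Y) := IsPullback.of_horiz_isIso ⟨by simp⟩
  exact OpenAt.isOpenAt_of_isPullback h sq x rfl

/-- The closure of a point in its fibre is seen inside every neighbourhood of the point. -/
theorem le_dim_open [LocallyOfFiniteType f] (U : X.Opens) {c : X} (hc : c ∈ U) :
    Order.krullDim {z : X | f z = f c ∧ c ⤳ z} ≤ topologicalKrullDim ↥((U : Set X) ∩ f ⁻¹' {f c}) := by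
  rw [topDim_open_inter_fibre, show c = U.ι ⟨c, hc⟩ from rfl, ← FibSemi.krullDim_specs_opens f U ⟨c, hc⟩]
  refine Order.krullDim_le_of_strictMono (fun z => ⟨U.ι z.1, z.2.1, z.1.2⟩) fun p q hpq => ?_
  exact ⟨hpq.le.map U.ι.continuous, fun h => hpq.not_ge ((FibSemi.le_of_specializes_open U _ _).mp h)⟩

/-- Large fibres in every neighbourhood give a large maximal generization. -/
theorem exists_gen_of_dim_le [LocallyOfFiniteType f] {x : X} {y' : Y} (d : ℕ)
    (h : ∀ U : X.Opens, x ∈ U → (d : WithBot ℕ∞) ≤ topologicalKrullDim ↥((U : Set X) ∩ f ⁻¹' {y'})) :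
    ∃ c, c ⤳ x ∧ f c = y' ∧ (∀ z, f z = y' → z ⤳ c → z = c) ∧
      (d : WithBot ℕ∞) ≤ Order.krullDim {z : X | f z = f c ∧ c ⤳ z} := by
  obtain ⟨V, hxV, hV⟩ := exists_nhd_max f x y'
  have h1 := h V hxV
  rw [topDim_open_inter_fibre] at h1
  obtain ⟨l, hl⟩ := Order.le_krullDim_iff.mp h1
  obtain ⟨c, hcw, hcx, hfc, hc⟩ := hV _ (l.last).2.2 (l.last).2.1
  refine ⟨c, hcx, hfc, hc, Order.le_krullDim_iff.mpr ⟨LTSeries.mk l.length
    (fun i => ⟨(l i).1, (l i).2.1.trans hfc.symm, hcw.trans (show (l.last).1 ⤳ (l i).1 from l.monotone (Fin.le_last i))⟩)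
    fun i j hij => l.strictMono hij, hl⟩⟩

/-- The generic point of an irreducible component has no proper generization. -/
theorem max_of_mem_components {Y₀ : Set Y} (hY₀ : Y₀ ∈ irreducibleComponents (Y : Type u)) {η : Y}
    (hη : closure ({η} : Set Y) = Y₀) : ∀ y', y' ⤳ η → y' = η :=
  fun y' h => QSect.max_of_component hY₀ hη y' h

/-- A maximal point of the generic fibre spans a component dominating the component below. -/
theorem component_facts {Y₀ : Set Y} (hY₀ : Y₀ ∈ irreducibleComponents (Y : Type u)) {η : Y}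
    (hη : closure ({η} : Set Y) = Y₀) {c : X} (hfc : f c = η) (hc : ∀ z, f z = η → z ⤳ c → z = c) :
    closure ({c} : Set X) ∈ irreducibleComponents (X : Type u) ∧
      closure (f.base '' closure {c}) = Y₀ ∧
      ∀ η' : Y, closure ({η'} : Set Y) = Y₀ →
        topologicalKrullDim ↥(closure {c} ∩ f.base ⁻¹' {η'}) = Order.krullDim {z : X | f z = f c ∧ c ⤳ z} := by
  refine ⟨⟨isIrreducible_singleton.closure, fun T hT hle => ?_⟩, ?_, fun η' hη' => ?_⟩
  · obtain ⟨t, ht⟩ := QuasiSober.sober hT.closure isClosed_closure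
    have h1 : t ⤳ c := ht.specializes (subset_closure (hle (subset_closure rfl)))
    have h2 : t = c := hc t (max_of_mem_components hY₀ hη _ (hfc ▸ h1.map f.continuous)) h1
    subst h2
    exact subset_closure.trans ht.symm.subset
  · show closure (f '' closure {c}) = Y₀
    rw [closure_image_closure f.continuous, Set.image_singleton, hfc, hη]
  · have : η' = η := IsGenericPoint.eq (show IsGenericPoint η' Y₀ from hη') hη
    subst this
    rw [← hfc]
    exact FibSemi.topDim_closure_inter_fibre_eq f c (f c)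

/-- The converse reading of a component in the criteria. -/
theorem generic_facts {Y₀ : Set Y} {Z : Set X} (hZ : Z ∈ irreducibleComponents (X : Type u))
    (hcl : closure (f.base '' Z) = Y₀) :
    ∃ ξ : X, closure ({ξ} : Set X) = Z ∧ closure ({f ξ} : Set Y) = Y₀ := by
  obtain ⟨ξ, hξ⟩ := QuasiSober.sober hZ.1 (isClosed_of_mem_irreducibleComponents Z hZ)
  refine ⟨ξ, hξ, ?_⟩
  rw [← hcl, ← show closure ({ξ} : Set X) = Z from hξ]
  show _ = closure (f '' closure {ξ})
  rw [closure_image_closure f.continuous, Set.image_singleton]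

/-- The component criterion gives universal openness. -/
theorem isUnivOpenAt_of_component [IsLocallyNoetherian Y] [LocallyOfFiniteType f] {x : X}
    (hy : CAlg2.IsGeomUnibranch (Y.presheaf.stalk (f x))) {Y₀ : Set Y} (hY₀ : Y₀ ∈ irreducibleComponents (Y : Type u))
    {Z : Set X} (hZ : Z ∈ irreducibleComponents (X : Type u)) (hx : x ∈ Z) (hcl : closure (f.base '' Z) = Y₀)
    (hdim : ∀ η : Y, closure ({η} : Set Y) = Y₀ →
      FlatMor.localDim ↥(Z ∩ f.base ⁻¹' {f.base x}) ⟨x, ⟨hx, rfl⟩⟩ = topologicalKrullDim ↥(Z ∩ f.base ⁻¹' {η})) :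
    EGA43.IsUnivOpenAt f x := by
  obtain ⟨ξ, hξ, hfξ⟩ := generic_facts f hZ hcl
  have hξx : ξ ⤳ x := specializes_iff_mem_closure.mpr (hξ ▸ hx)
  subst hξ
  obtain ⟨-, -, -, e, -, -, -, he, -⟩ := FibSemi.dim_inequality f hξx
  have h := hdim (f ξ) hfξ
  replace h := h.trans (FibSemi.topDim_closure_inter_fibre_eq f ξ (f ξ))
  rw [he] at h
  obtain ⟨U, hxU, hU⟩ := (localDim_le_iff f (closure {ξ}) isClosed_closure x hx _ (f x) rfl).mp h.le
  refine isUnivOpenAt_of_dim f hξx (max_of_mem_components hY₀ hfξ) hy he U hxU (le_trans ?_ hU)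
  exact FibSemi.krullDim_mono fun z hz => ⟨hz.1, specializes_iff_mem_closure.mp hz.2.1, hz.2.2⟩

/-- A maximal point of a fibre has the dimension of its closure as local fibre dimension. -/
theorem fibreDimAt_of_max [LocallyOfFiniteType f] {c : X} (hc : ∀ z, f z = f c → z ⤳ c → z = c) :
    FlatMor.fibreDimAt f c = Order.krullDim {z : X | f z = f c ∧ c ⤳ z} := by
  obtain ⟨n, m, hn, hm, hfd⟩ := FibSemi.fibreDimAt_eq_add f c
  have hn0 : n = 0 := by
    have h0 : Order.krullDim {z : X | f z = f c ∧ z ⤳ c} ≤ 0 := by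
      haveI : Subsingleton {z : X | f z = f c ∧ z ⤳ c} :=
        ⟨fun a b => Subtype.ext ((hc _ a.2.1 a.2.2).trans (hc _ b.2.1 b.2.2).symm)⟩
      exact Order.krullDim_nonpos_of_subsingleton
    rw [hn] at h0
    exact Nat.le_zero.mp (ENat.natCast_le_natCast.mp (WithBot.coe_le_coe.mp h0))
  subst hn0
  rw [zero_add] at hfd
  rw [hfd, hm]

/-- A component as big over the generic point as the fibre at `x` satisfies the criterion. -/
theorem localDim_eq_of_gen [LocallyOfFiniteType f] {c x : X} (hcx : c ⤳ x)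
    (h : FlatMor.fibreDimAt f x ≤ Order.krullDim {z : X | f z = f c ∧ c ⤳ z}) :
    FlatMor.localDim ↥(closure {c} ∩ f.base ⁻¹' {f.base x})
      ⟨x, ⟨specializes_iff_mem_closure.mp hcx, rfl⟩⟩ = Order.krullDim {z : X | f z = f c ∧ c ⤳ z} := by
  refine le_antisymm ((localDim_le_fibreDimAt f _ isClosed_closure x (specializes_iff_mem_closure.mp hcx)).trans h) ?_
  refine le_iInf fun O => ?_
  obtain ⟨O', hO'o, hO'⟩ := isOpen_induced_iff.mp O.1.2
  have hxO : x ∈ O' := by
    have h2 : (⟨x, specializes_iff_mem_closure.mp hcx, rfl⟩ : ↥(closure {c} ∩ f.base ⁻¹' {f.base x})) ∈ Subtype.val ⁻¹' O' :=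
      hO' ▸ O.2
    exact h2
  refine (FibSemi.topDim_closure_inter_fibre_eq f c (f c)).ge.trans
    ((FibSemi.topDim_closure_inter_fibre_le f hcx ⟨O', hO'o⟩ hxO).trans ?_)
  have hmem : ∀ w : ↥((((⟨O', hO'o⟩ : X.Opens) : Set X)) ∩ closure {c} ∩ f ⁻¹' {f x}),
      (⟨w.1, w.2.1.2, w.2.2⟩ : ↥(closure {c} ∩ f.base ⁻¹' {f.base x})) ∈ (O.1 : Set ↥(closure {c} ∩ f.base ⁻¹' {f.base x})) := fun w => by
    rw [show (O.1 : Set ↥(closure {c} ∩ f.base ⁻¹' {f.base x})) = Subtype.val ⁻¹' O' from hO'.symm]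
    exact w.2.1.1
  refine IsInducing.topologicalKrullDim_le (f := fun w => (⟨⟨w.1, w.2.1.2, w.2.2⟩, hmem w⟩ :
    (O.1 : Set ↥(closure {c} ∩ f.base ⁻¹' {f.base x})))) ?_
  exact IsInducing.of_comp (by fun_prop) (continuous_subtype_val.comp continuous_subtype_val) IsInducing.subtypeVal

end Groth.Agent.GUOpen
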