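import Mathlib
import Groth.Agent.GUOpen.Lift

/-!
Over a geometrically unibranch point, chains of primes lift below every point where the algebra is integral
over a polynomial ring after inverting one element.
-/

set_option autoImplicit false
set_option linter.style.haveILetI false
universe u
open MvPolynomial

noncomputable section

namespace Groth.Agent.GUOpen

section Generic

variable {Sn Rt : Type u} [CommRing Sn] [CommRing Rt] [Algebra Sn Rt] [Algebra.IsIntegral Sn Rt]

/-- Primes of an integral extension over a given prime are kernels of points with a given restriction. -/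
theorem exists_point_of_over (q : Ideal Sn) [q.IsPrime] {Ω : Type u} [Field Ω] [IsAlgClosed Ω]
    (ω : Sn ⧸ q →+* Ω) (hω : Function.Injective ω) (Q : Ideal Rt) [Q.IsPrime]
    (hQ : Q.comap (algebraMap Sn Rt) = q) :
    ∃ η : Rt →+* Ω, η.comp (algebraMap Sn Rt) = ω.comp (Ideal.Quotient.mk q) ∧ RingHom.ker η = Q := by
  haveI : IsDomain (Rt ⧸ Q) := Ideal.Quotient.isDomain _
  let i : Sn ⧸ q →+* Rt ⧸ Q := Ideal.quotientMap Q (algebraMap Sn Rt) hQ.ge
  have hi : Function.Injective i := Ideal.quotientMap_injective' (H := hQ.ge) hQ.le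
  have hint : i.IsIntegral := by
    intro z
    obtain ⟨z, rfl⟩ := Ideal.Quotient.mk_surjective z
    obtain ⟨g, hg, hgz⟩ := Algebra.IsIntegral.isIntegral (R := Sn) z
    refine ⟨g.map (Ideal.Quotient.mk q), hg.map _, ?_⟩
    rw [Polynomial.eval₂_map, show i.comp (Ideal.Quotient.mk q) = (Ideal.Quotient.mk Q).comp (algebraMap Sn Rt) from
      RingHom.ext fun _ => rfl, ← Polynomial.hom_eval₂, hgz, map_zero]
  obtain ⟨η, hη⟩ := exists_extension i hi hint ω
  refine ⟨η.comp (Ideal.Quotient.mk Q), RingHom.ext fun s => RingHom.congr_fun hη (Ideal.Quotient.mk q s), ?_⟩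
  haveI : (RingHom.ker η).IsPrime := RingHom.ker_isPrime η
  letI := i.toAlgebra
  haveI : Algebra.IsIntegral (Sn ⧸ q) (Rt ⧸ Q) := ⟨hint⟩
  haveI : IsDomain (Sn ⧸ q) := Ideal.Quotient.isDomain _
  have h0 : RingHom.ker η = ⊥ := by
    refine Ideal.eq_bot_of_comap_eq_bot (R := Sn ⧸ q) ?_
    show (RingHom.ker η).comap i = ⊥
    rw [RingHom.comap_ker, hη, ← RingHom.injective_iff_ker_eq_bot]
    exact hω
  rw [← RingHom.comap_ker, h0, ← RingHom.ker_eq_comap_bot, Ideal.mk_ker]

variable {B L : Type u} [CommRing B] [Field L] [IsDomain Rt] [IsIntegrallyClosed Rt]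
  [Algebra Rt L] [Algebra Sn L] [Algebra Sn B] [Algebra B L] [IsScalarTower Sn Rt L] [IsScalarTower Sn B L]

set_option maxHeartbeats 1000000 in
/-- Chains lift below a point of `B` when only one prime of the normal extension lies over it. -/
theorem exists_chain_le_aux (hSR : Function.Injective (algebraMap Sn Rt)) (hRL : Function.Injective (algebraMap Rt L))
    (hBL : Function.Injective (algebraMap B L)) (P : Ideal B) [P.IsPrime]
    (huniq : ∀ Q₁ Q₂ : Ideal Rt, Q₁.IsPrime → Q₂.IsPrime → Q₁.comap (algebraMap Sn Rt) = P.comap (algebraMap Sn B) →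
      Q₂.comap (algebraMap Sn Rt) = P.comap (algebraMap Sn B) → Q₁ = Q₂)
    (r : B) (hrP : r ∉ P) (hr : ∀ x, ∃ m, IsIntegral Sn (r ^ m * x))
    (lS : LTSeries (PrimeSpectrum Sn)) (hlS : lS.last.asIdeal ≤ P.comap (algebraMap Sn B)) :
    ∃ m : LTSeries (PrimeSpectrum B), m.length = lS.length ∧ m.last.asIdeal ≤ P := by
  classical
  haveI : Algebra.IsIntegral Sn (integralClosure Rt L) := Algebra.IsIntegral.trans Rt
  haveI : FaithfulSMul Rt (integralClosure Rt L) :=
    (faithfulSMul_iff_algebraMap_injective _ _).mpr fun u v huv => hRL (congrArg Subtype.val huv)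
  haveI := lS.head.isPrime
  obtain ⟨Q₀, -, hQ₀p, hQ₀⟩ := Ideal.exists_ideal_over_prime_of_isIntegral lS.head.asIdeal (⊥ : Ideal Rt)
    (fun x hx => by
      have : algebraMap Sn Rt x = 0 := hx
      rw [show x = 0 from hSR (this.trans (map_zero _).symm)]
      exact zero_mem _)
  haveI := hQ₀p
  haveI : Q₀.LiesOver lS.head.asIdeal := ⟨hQ₀.symm⟩
  obtain ⟨lR, hlenR, -, hmapR⟩ := Ideal.exists_ltSeries_of_hasGoingUp lS Q₀
  have hlastR : lR.last.asIdeal.comap (algebraMap Sn Rt) = lS.last.asIdeal := by
    have h1 := congrArg List.getLast? hmapR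
    rw [List.getLast?_map, List.getLast?_eq_some_getLast (RelSeries.toList_ne_nil lR),
      List.getLast?_eq_some_getLast (RelSeries.toList_ne_nil lS), Option.map_some, Option.some.injEq] at h1
    simp only [RelSeries.getLast_toList] at h1
    exact congrArg PrimeSpectrum.asIdeal h1
  haveI := lR.last.isPrime
  haveI : lR.last.asIdeal.LiesOver lS.last.asIdeal := ⟨hlastR.symm⟩
  let qS : Ideal Sn := P.comap (algebraMap Sn B)
  haveI : qS.IsPrime := Ideal.comap_isPrime _ _
  obtain ⟨Qq, hQq, hQqp, hQqo⟩ := Ideal.exists_ideal_ge_liesOver_of_le (q := qS) lR.last.asIdeal hlS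
  -- a point of the normalization over `P`
  have hjmem : ∀ c : integralClosure Sn B, algebraMap B L (c : B) ∈ integralClosure Rt L := fun c =>
    (c.2.map (IsScalarTower.toAlgHom Sn B L)).tower_top
  let j : integralClosure Sn B →+* integralClosure Rt L :=
    ((algebraMap B L).comp (integralClosure Sn B).val.toRingHom).codRestrict (integralClosure Rt L) hjmem
  letI algCC : Algebra (integralClosure Sn B) (integralClosure Rt L) := j.toAlgebra
  haveI : IsScalarTower Sn (integralClosure Sn B) (integralClosure Rt L) :=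
    IsScalarTower.of_algebraMap_eq fun x => Subtype.ext (by
      show algebraMap Sn L x = algebraMap B L (algebraMap Sn B x)
      exact IsScalarTower.algebraMap_apply Sn B L x)
  haveI : Algebra.IsIntegral (integralClosure Sn B) (integralClosure Rt L) := Algebra.IsIntegral.tower_top Sn
  let PC : Ideal (integralClosure Sn B) := P.comap (integralClosure Sn B).val.toRingHom
  haveI : PC.IsPrime := Ideal.comap_isPrime _ _
  obtain ⟨x'', -, hx'', hover⟩ := Ideal.exists_ideal_over_prime_of_isIntegral PC
    (⊥ : Ideal (integralClosure Rt L)) (by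
    intro c hc
    have h0 : algebraMap B L (c : B) = 0 := congrArg Subtype.val (show j c = 0 from hc)
    rw [show c = 0 from Subtype.ext (hBL (h0.trans (map_zero _).symm))]
    exact zero_mem _)
  haveI := hx''
  have hxQ : x''.comap (algebraMap Rt (integralClosure Rt L)) = Qq := by
    refine huniq _ _ (Ideal.comap_isPrime _ _) hQqp ?_ hQqo.over.symm
    rw [Ideal.comap_comap, ← IsScalarTower.algebraMap_eq Sn Rt (integralClosure Rt L),
      IsScalarTower.algebraMap_eq Sn (integralClosure Sn B) (integralClosure Rt L), ← Ideal.comap_comap, hover]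
    rfl
  haveI : x''.LiesOver (x''.comap (algebraMap Rt (integralClosure Rt L))) := ⟨rfl⟩
  obtain ⟨Q'', hQle, hQprime, hQover⟩ := Ideal.exists_ideal_le_liesOver_of_le x'' (hxQ ▸ hQq : lR.last.asIdeal ≤ _)
  haveI := hQprime
  obtain ⟨lI, hlenI, hlastI, -⟩ := Ideal.exists_ltSeries_of_hasGoingDown lR Q''
  -- contract to the integral closure and move to `B`
  let cC : PrimeSpectrum (integralClosure Rt L) → PrimeSpectrum (integralClosure Sn B) :=
    PrimeSpectrum.comap (algebraMap (integralClosure Sn B) (integralClosure Rt L))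
  have hcC : StrictMono cC := fun q q' h => by
    haveI := q.isPrime
    exact Ideal.IsIntegral.comap_lt_comap (show q.asIdeal < q'.asIdeal from h)
  let lC : LTSeries (PrimeSpectrum (integralClosure Sn B)) := lI.map cC hcC
  have hlC : ∀ i, (lC i).asIdeal ≤ PC := fun i => by
    refine le_trans (lC.monotone (Fin.le_last i)) ?_
    show (lI.last).asIdeal.comap _ ≤ PC
    rw [hlastI, ← hover]
    exact Ideal.comap_mono hQle
  have hrint : IsIntegral Sn r := by
    obtain ⟨m, hm⟩ := hr r
    rw [← pow_succ] at hm
    exact (IsIntegral.pow_iff m.succ_pos).mp hm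
  let rC : integralClosure Sn B := ⟨r, hrint⟩
  let Lr := Localization.Away rC
  have hbij : Function.Bijective (Localization.awayMap (integralClosure Sn B).val.toRingHom rC) :=
    ⟨IsLocalization.map_injective_of_injective _ _ _ Subtype.val_injective,
      Localization.awayMap_surjective_iff.mpr fun x => by
        obtain ⟨m, hm⟩ := hr x
        exact ⟨⟨_, hm⟩, m, rfl⟩⟩
  let eC := RingEquiv.ofBijective _ hbij
  let βr : B →+* Lr := eC.symm.toRingHom.comp (algebraMap B _)
  have hβC : ∀ c : integralClosure Sn B, βr (c : B) = algebraMap _ Lr c := fun c => by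
    show eC.symm (algebraMap B _ (c : B)) = _
    rw [RingEquiv.symm_apply_eq]
    show _ = Localization.awayMap _ rC _
    simp only [Localization.awayMap, IsLocalization.Away.map]
    rw [IsLocalization.map_eq]
    rfl
  have hdis : ∀ i, Disjoint (Submonoid.powers rC : Set (integralClosure Sn B)) (lC i).asIdeal := fun i => by
    rw [Set.disjoint_left]
    rintro _ ⟨n, rfl⟩ hn
    exact hrP (hlC i ((lC i).isPrime.mem_of_pow_mem n hn))
  haveI hmp : ∀ i, ((lC i).asIdeal.map (algebraMap _ Lr)).IsPrime := fun i =>
    IsLocalization.isPrime_of_isPrime_disjoint (Submonoid.powers rC) Lr _ (lC i).isPrime (hdis i)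
  let w : Fin (lC.length + 1) → PrimeSpectrum B := fun i => ⟨((lC i).asIdeal.map (algebraMap _ Lr)).comap βr, inferInstance⟩
  have hwC : ∀ i (c : integralClosure Sn B), (c : B) ∈ (w i).asIdeal ↔ c ∈ (lC i).asIdeal := fun i c => by
    show βr (c : B) ∈ (lC i).asIdeal.map (algebraMap (integralClosure Sn B) Lr) ↔ _
    rw [hβC, ← Ideal.mem_comap]
    exact SetLike.ext_iff.mp
      (IsLocalization.under_map_of_isPrime_disjoint (Submonoid.powers rC) Lr (lC i).isPrime (hdis i)) c
  have hw : StrictMono w := fun i i' h => by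
    refine lt_of_le_not_ge (Ideal.comap_mono (Ideal.map_mono (lC.monotone h.le))) fun h' => (lC.strictMono h).not_ge ?_
    exact fun c hc => (hwC i c).mp (h' ((hwC i' c).mpr hc))
  refine ⟨LTSeries.mk lC.length w hw, ?_, fun x hx => ?_⟩
  · show lI.length = lS.length
    rw [hlenI, hlenR]
  · obtain ⟨m, hm⟩ := hr x
    have h1 : r ^ m * x ∈ P := hlC _ ((hwC _ ⟨_, hm⟩).mp (Ideal.mul_mem_left _ _ hx))
    exact (Ideal.IsPrime.mem_or_mem ‹_› h1).resolve_left fun h => hrP (Ideal.IsPrime.mem_of_pow_mem ‹_› m h)

end Generic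

variable {A B : Type u} [CommRing A] [IsDomain A] [CommRing B] [IsDomain B] [Algebra A B] {e : ℕ}

set_option maxHeartbeats 1000000 in
/-- Lifting of chains below a point (height does not drop). -/
theorem exists_chain_le (L : Type u) [Field L] [Algebra B L] [IsFractionRing B L] (a : Fin e → B)
    (ha : Function.Injective (aeval (R := A) a)) (P : Ideal B) [P.IsPrime] (p : Ideal A) [p.IsPrime]
    (hPp : P.comap (algebraMap A B) = p) (hgu : CAlg2.IsGeomUnibranch (Localization.AtPrime p)) (r : B) (hrP : r ∉ P)
    (hr : letI := (aeval (R := A) a).toRingHom.toAlgebra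
      ∀ x, ∃ m, IsIntegral (MvPolynomial (Fin e) A) (r ^ m * x))
    (l : LTSeries (PrimeSpectrum A)) (hl : l.last.asIdeal = p) :
    ∃ m : LTSeries (PrimeSpectrum B), m.length = l.length ∧ m.last.asIdeal ≤ P := by
  classical
  letI algSB : Algebra (MvPolynomial (Fin e) A) B := (aeval (R := A) a).toRingHom.toAlgebra
  let K := FractionRing A
  letI : Algebra A L := ((algebraMap B L).comp (algebraMap A B)).toAlgebra
  haveI : IsScalarTower A B L := IsScalarTower.of_algebraMap_eq fun _ => rfl
  have hAB : Function.Injective (algebraMap A B) := fun u v huv => by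
    have := ha (a₁ := C u) (a₂ := C v) (by simpa using huv)
    exact C_injective _ _ this
  have hBL : Function.Injective (algebraMap B L) := IsFractionRing.injective B L
  have hAL : Function.Injective (algebraMap A L) := by
    rw [IsScalarTower.algebraMap_eq A B L]
    exact hBL.comp hAB
  let κ : K →+* L := IsFractionRing.lift hAL
  let θ : MvPolynomial (Fin e) (integralClosure A K) →+* L :=
    eval₂Hom (κ.comp (integralClosure A K).val.toRingHom) fun j => algebraMap B L (a j)
  let ι₀ : MvPolynomial (Fin e) A →+* MvPolynomial (Fin e) (integralClosure A K) :=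
    MvPolynomial.map (algebraMap A (integralClosure A K))
  have hθι : θ.comp ι₀ = (algebraMap B L).comp (algebraMap (MvPolynomial (Fin e) A) B) := by
    refine MvPolynomial.ringHom_ext (fun c => ?_) (fun j => ?_)
    · show θ (MvPolynomial.map _ (C c)) = algebraMap B L (aeval a (C c))
      rw [map_C, aeval_C]
      show eval₂ _ _ (C (algebraMap A (integralClosure A K) c)) = _
      rw [eval₂_C]
      show κ (algebraMap A K c) = _
      rw [IsFractionRing.lift_algebraMap, ← IsScalarTower.algebraMap_apply A B L]
    · show θ (MvPolynomial.map _ (X j)) = algebraMap B L (aeval a (X j))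
      rw [map_X, aeval_X]
      exact eval₂_X _ _ _
  letI algSR : Algebra (MvPolynomial (Fin e) A) (MvPolynomial (Fin e) (integralClosure A K)) :=
    MvPolynomial.algebraMvPolynomial
  letI algRL : Algebra (MvPolynomial (Fin e) (integralClosure A K)) L := θ.toAlgebra
  letI algSL : Algebra (MvPolynomial (Fin e) A) L := (θ.comp ι₀).toAlgebra
  haveI : IsScalarTower (MvPolynomial (Fin e) A) (MvPolynomial (Fin e) (integralClosure A K)) L :=
    IsScalarTower.of_algebraMap_eq fun _ => rfl
  haveI : IsScalarTower (MvPolynomial (Fin e) A) B L := IsScalarTower.of_algebraMap_eq fun x => RingHom.congr_fun hθι x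
  haveI : IsIntegrallyClosed (integralClosure A K) :=
    integralClosure.isIntegrallyClosedOfFiniteExtension (K := K) (L := K)
  haveI : IsIntegrallyClosed (MvPolynomial (Fin e) (integralClosure A K)) :=
    QSect.isIntegrallyClosed_mvPolynomial (integralClosure A K) e
  have hSL : Function.Injective (θ.comp ι₀) := by
    rw [hθι]
    exact hBL.comp ha
  have hιinj : Function.Injective ι₀ := fun x y h => hSL (congrArg θ h)
  have hθinj : Function.Injective (algebraMap (MvPolynomial (Fin e) (integralClosure A K)) L) := by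
    rw [RingHom.injective_iff_ker_eq_bot]
    haveI : (RingHom.ker (algebraMap (MvPolynomial (Fin e) (integralClosure A K)) L)).IsPrime := RingHom.ker_isPrime _
    refine Ideal.eq_bot_of_comap_eq_bot (R := MvPolynomial (Fin e) A) (S := MvPolynomial (Fin e) (integralClosure A K)) ?_
    rw [RingHom.comap_ker, ← RingHom.injective_iff_ker_eq_bot]
    exact hSL
  haveI : (P.comap (algebraMap (MvPolynomial (Fin e) A) B)).IsPrime := Ideal.comap_isPrime _ _
  have hCB : ∀ c, algebraMap (MvPolynomial (Fin e) A) B (C c) = algebraMap A B c := fun c => aeval_C a c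
  let cS : PrimeSpectrum A → PrimeSpectrum (MvPolynomial (Fin e) A) := fun q =>
    ⟨q.asIdeal.map C, by
      haveI := q.isPrime
      haveI : IsDomain (A ⧸ q.asIdeal) := Ideal.Quotient.isDomain _
      rw [← Ideal.mk_ker (I := q.asIdeal), ← MvPolynomial.ker_map]
      exact RingHom.ker_isPrime _⟩
  have hcS : StrictMono cS := fun q q' h => by
    refine lt_of_le_not_ge (Ideal.map_mono h.le) fun h' => h.not_ge fun c hc => ?_
    have h1 := MvPolynomial.mem_map_C_iff.mp (h' (Ideal.mem_map_of_mem C hc)) 0
    simpa using h1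
  obtain ⟨m, hm, hmP⟩ := exists_chain_le_aux (Rt := MvPolynomial (Fin e) (integralClosure A K)) (L := L)
    hιinj hθinj hBL P (fun Q₁ Q₂ h₁ h₂ e₁ e₂ => by
      haveI : IsDomain (MvPolynomial (Fin e) A ⧸ P.comap (algebraMap (MvPolynomial (Fin e) A) B)) :=
        Ideal.Quotient.isDomain _
      let D := MvPolynomial (Fin e) A ⧸ P.comap (algebraMap (MvPolynomial (Fin e) A) B)
      let ω : D →+* AlgebraicClosure (FractionRing D) :=
        (algebraMap (FractionRing D) _).comp (algebraMap D (FractionRing D))
      have hω : Function.Injective ω :=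
        (algebraMap (FractionRing D) _).injective.comp (IsFractionRing.injective D _)
      haveI := h₁; haveI := h₂
      obtain ⟨η₁, hη₁, hk₁⟩ := exists_point_of_over _ ω hω Q₁ e₁
      obtain ⟨η₂, hη₂, hk₂⟩ := exists_point_of_over _ ω hω Q₂ e₂
      suffices η₁ = η₂ by rw [← hk₁, ← hk₂, this]
      refine MvPolynomial.ringHom_ext (fun c => ?_) (fun j => ?_)
      · have hA : ∀ (η : MvPolynomial (Fin e) (integralClosure A K) →+* _),
            η.comp ι₀ = ω.comp (Ideal.Quotient.mk _) → ∀ c,
            η (C (algebraMap A (integralClosure A K) c)) = ω (Ideal.Quotient.mk _ (C c)) := fun η hη c => by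
          have h0 := RingHom.congr_fun hη (C c)
          have e0 : ι₀ (C c) = C (algebraMap A (integralClosure A K) c) := MvPolynomial.map_C _ _
          simp only [RingHom.comp_apply, e0] at h0
          exact h0
        have h := UH.eq_of_isGeomUnibranch (A := A) (R := Localization.AtPrime p) K p hgu
          (η₁.comp (MvPolynomial.C (σ := Fin e) (R := integralClosure A K)))
          (η₂.comp (MvPolynomial.C (σ := Fin e) (R := integralClosure A K)))
          (RingHom.ext fun c => (hA η₁ hη₁ c).trans (hA η₂ hη₂ c).symm)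
          (by
            ext c
            rw [RingHom.mem_ker]
            show η₁ (C (algebraMap A (integralClosure A K) c)) = 0 ↔ c ∈ p
            rw [hA η₁ hη₁ c, map_eq_zero_iff ω hω, Ideal.Quotient.eq_zero_iff_mem, ← hPp, Ideal.mem_comap,
              Ideal.mem_comap, hCB c])
        exact RingHom.congr_fun h c
      · have e0 : ι₀ (X j) = X j := MvPolynomial.map_X _ _
        rw [← e0]
        exact (RingHom.congr_fun hη₁ (X j)).trans (RingHom.congr_fun hη₂ (X j)).symm)
    r hrP hr (l.map cS hcS) (by
      show (l.last).asIdeal.map C ≤ _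
      rw [hl, Ideal.map_le_iff_le_comap]
      intro c hc
      show algebraMap (MvPolynomial (Fin e) A) B (C c) ∈ P
      rw [hCB, ← Ideal.mem_comap, hPp]
      exact hc)
  exact ⟨m, hm, hmP⟩

end Groth.Agent.GUOpen
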