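import Mathlib
import Groth.Agent.GUOpen.Main
import Groth.Agent.GUOpen.Height
import Groth.Agent.GUOpen.Fibre
import Groth.Agent.RedSub.Basic

/-!
The dimension formula over a geometrically unibranch point (EGA IV 13.3.6).
-/

set_option autoImplicit false
set_option linter.style.haveILetI false
universe u
open CategoryTheory AlgebraicGeometry Limits Topology TopologicalSpace

noncomputable section

namespace Groth.Agent.GUOpen

variable {X Y : Scheme.{u}} (f : X ⟶ Y)

/-- Chains of generizations of the image lift below the point. -/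
theorem height_le_of_dim [IsLocallyNoetherian Y] [LocallyOfFiniteType f] {ξ x : X} (hξx : ξ ⤳ x)
    (hη : ∀ y' : Y, y' ⤳ f ξ → y' = f ξ) (hy : CAlg2.IsGeomUnibranch (Y.presheaf.stalk (f x))) {e : ℕ}
    (he : Order.krullDim {z : X | f z = f ξ ∧ ξ ⤳ z} = e) (U : X.Opens) (hxU : x ∈ U)
    (hdim : Order.krullDim {z : X | f z = f x ∧ ξ ⤳ z ∧ z ∈ U} ≤ e) :
    Order.krullDim {z : Y | f ξ ⤳ z ∧ z ⤳ f x} ≤ Order.krullDim {z : X | ξ ⤳ z ∧ z ⤳ x} := by
  classical
  obtain ⟨V, hV, hyV, -⟩ := exists_isAffineOpen_mem_and_subset (U := ⊤) (x := f x) trivial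
  obtain ⟨W, hW, hxW, eWsub⟩ := exists_isAffineOpen_mem_and_subset (U := U ⊓ f ⁻¹ᵁ V) (x := x) ⟨hxU, hyV⟩
  have eW : W ≤ f ⁻¹ᵁ V := fun w hw => (eWsub hw).2
  have hWU : ∀ w ∈ W, w ∈ U := fun w hw => (eWsub hw).1
  letI algAB : Algebra Γ(Y, V) Γ(X, W) := (f.appLE V W eW).hom.toAlgebra
  haveI : Algebra.FiniteType Γ(Y, V) Γ(X, W) := LocallyOfFiniteType.finiteType_appLE f hV hW eW
  haveI : IsNoetherianRing Γ(Y, V) := IsLocallyNoetherian.component_noetherian ⟨V, hV⟩
  have hle_iff : ∀ a b : PrimeSpectrum Γ(X, W), a ≤ b ↔ hW.fromSpec a ⤳ hW.fromSpec b := fun a b =>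
    (PrimeSpectrum.le_iff_specializes a b).trans hW.fromSpec.isOpenEmbedding.isEmbedding.specializes_iff.symm
  have hle_iffY : ∀ a b : PrimeSpectrum Γ(Y, V), a ≤ b ↔ hV.fromSpec a ⤳ hV.fromSpec b := fun a b =>
    (PrimeSpectrum.le_iff_specializes a b).trans hV.fromSpec.isOpenEmbedding.isEmbedding.specializes_iff.symm
  have hover : ∀ a b : PrimeSpectrum Γ(X, W),
      f (hW.fromSpec a) = f (hW.fromSpec b) ↔
        a.asIdeal.comap (algebraMap Γ(Y, V) Γ(X, W)) = b.asIdeal.comap (algebraMap Γ(Y, V) Γ(X, W)) := fun a b => by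
    rw [DimSpec.app_fromSpec hV hW eW, DimSpec.app_fromSpec hV hW eW]
    exact hV.fromSpec.isOpenEmbedding.injective.eq_iff.trans PrimeSpectrum.ext_iff
  obtain ⟨z, hzW, hxz, hfz, hzcl⟩ := FibSemi.exists_closed_in_fibre f x W hxW
  obtain ⟨P, hP⟩ := DimSpec.exists_fromSpec hW hxW
  obtain ⟨Pz, hPz⟩ := DimSpec.exists_fromSpec hW hzW
  obtain ⟨q, hq⟩ := DimSpec.exists_fromSpec hW (hξx.mem_open W.isOpen hxW)
  have hqP : q ≤ P := (hle_iff q P).mpr (by rw [hq, hP]; exact hξx)
  have hPPz : P ≤ Pz := (hle_iff P Pz).mpr (by rw [hP, hPz]; exact hxz)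
  let p : PrimeSpectrum Γ(Y, V) := P.comap (algebraMap Γ(Y, V) Γ(X, W))
  let N : PrimeSpectrum Γ(Y, V) := q.comap (algebraMap Γ(Y, V) Γ(X, W))
  haveI := q.isPrime; haveI := P.isPrime; haveI := Pz.isPrime; haveI := p.isPrime; haveI := N.isPrime
  have hNp : N ≤ p := Ideal.comap_mono hqP
  have hfp : hV.fromSpec p = f x := by rw [← hP, DimSpec.app_fromSpec hV hW eW]; rfl
  have hfN : hV.fromSpec N = f ξ := by rw [← hq, DimSpec.app_fromSpec hV hW eW]; rfl
  -- unibranch localization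
  have hgu : CAlg2.IsGeomUnibranch (Localization.AtPrime p.asIdeal) := by
    letI : Algebra Γ(Y, V) (Y.presheaf.stalk (f x)) := Y.presheaf.algebra_section_stalk ⟨f x, hyV⟩
    haveI : IsLocalization.AtPrime (Y.presheaf.stalk (f x)) p.asIdeal := by
      have h := hV.isLocalization_stalk ⟨f x, hyV⟩
      have hpe : hV.primeIdealOf ⟨f x, hyV⟩ = p := hV.fromSpec.isOpenEmbedding.injective
        ((hV.fromSpec_primeIdealOf ⟨f x, hyV⟩).trans hfp.symm)
      rwa [hpe] at h
    let e₁ : Y.presheaf.stalk (f x) ≃+* Localization.AtPrime p.asIdeal :=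
      (IsLocalization.algEquiv p.asIdeal.primeCompl (Y.presheaf.stalk (f x)) (Localization.AtPrime p.asIdeal)).toRingEquiv
    exact isGeomUnibranch_congr e₁ hy
  have hminN : ∀ Q : Ideal Γ(Y, V), Q.IsPrime → Q ≤ p.asIdeal → N.asIdeal ≤ Q := by
    obtain ⟨N₀, hN₀, hN₀p, hN₀min, -⟩ := exists_min_of_geomUnibranch p.asIdeal hgu
    intro Q hQ hQp
    suffices hNN : N.asIdeal = N₀ from hNN ▸ hN₀min Q hQ hQp
    have h0 : (⟨N₀, hN₀⟩ : PrimeSpectrum Γ(Y, V)) ≤ N := hN₀min _ N.isPrime hNp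
    have h1 := hη _ (hfN ▸ (hle_iffY _ _).mp h0)
    rw [← hfN] at h1
    exact (congrArg PrimeSpectrum.asIdeal (hV.fromSpec.isOpenEmbedding.injective h1)).symm
  -- the domains
  let A' := Γ(Y, V) ⧸ N.asIdeal
  let B' := Γ(X, W) ⧸ q.asIdeal
  letI algAB' : Algebra A' B' := (Ideal.quotientMap q.asIdeal (algebraMap Γ(Y, V) Γ(X, W)) le_rfl).toAlgebra
  haveI : IsScalarTower Γ(Y, V) A' B' := IsScalarTower.of_algebraMap_eq fun _ => rfl
  haveI : IsDomain A' := Ideal.Quotient.isDomain _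
  haveI : IsDomain B' := Ideal.Quotient.isDomain _
  haveI : FaithfulSMul A' B' := (faithfulSMul_iff_algebraMap_injective _ _).mpr
    (Ideal.quotientMap_injective' (H := le_rfl) le_rfl)
  haveI : Algebra.FiniteType Γ(Y, V) B' :=
    .of_surjective (Ideal.Quotient.mkₐ _ q.asIdeal) Ideal.Quotient.mk_surjective
  haveI : Algebra.FiniteType A' B' := .of_restrictScalars_finiteType Γ(Y, V) A' B'
  let p' : Ideal A' := p.asIdeal.map (Ideal.Quotient.mk N.asIdeal)
  haveI : p'.IsPrime := Ideal.map_isPrime_of_surjective Ideal.Quotient.mk_surjective (by rw [Ideal.mk_ker]; exact hNp)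
  have hp' : p.asIdeal = p'.comap (Ideal.Quotient.mk N.asIdeal) := by
    rw [Ideal.comap_map_of_surjective _ Ideal.Quotient.mk_surjective, ← RingHom.ker_eq_comap_bot, Ideal.mk_ker,
      sup_eq_left.mpr hNp]
  let Pz' : Ideal B' := Pz.asIdeal.map (Ideal.Quotient.mk q.asIdeal)
  haveI : Pz'.IsPrime := Ideal.map_isPrime_of_surjective Ideal.Quotient.mk_surjective
    (by rw [Ideal.mk_ker]; exact hqP.trans hPPz)
  have hPz' : Pz'.comap (Ideal.Quotient.mk q.asIdeal) = Pz.asIdeal := by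
    rw [Ideal.comap_map_of_surjective _ Ideal.Quotient.mk_surjective, ← RingHom.ker_eq_comap_bot, Ideal.mk_ker,
      sup_eq_left.mpr (hqP.trans hPPz)]
  have hfz' : Pz.asIdeal.comap (algebraMap Γ(Y, V) Γ(X, W)) = p.asIdeal :=
    (hover Pz P).mp (by rw [hPz, hP, hfz])
  have hcomm : ∀ Q : Ideal B', (Q.comap (algebraMap A' B')).comap (Ideal.Quotient.mk N.asIdeal) =
      (Q.comap (Ideal.Quotient.mk q.asIdeal)).comap (algebraMap Γ(Y, V) Γ(X, W)) := fun Q => by
    rw [Ideal.comap_comap, Ideal.comap_comap]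
    rfl
  have hPz'p : Pz'.comap (algebraMap A' B') = p' :=
    Ideal.comap_injective_of_surjective _ Ideal.Quotient.mk_surjective (by rw [hcomm, hPz', hfz', ← hp'])
  -- parameters
  obtain ⟨m, hm⟩ : ∃ m : ℕ, Algebra.trdeg A' B' = m := by
    haveI : Pz'.LiesOver p' := ⟨hPz'p.symm⟩
    obtain ⟨-, -, -, m, -, -, -, hm, -⟩ := CycLib.height_add_trdeg (A := A') (S := B') p' Pz'
    exact ⟨m, hm⟩
  have hme : m = e := by
    have h1 := FibSemi.krullDim_specs f hV hW eW q N.asIdeal rfl m hm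
    rw [hq, he] at h1
    exact_mod_cast h1.symm
  subst hme
  obtain ⟨a, ha, r, hr, hrint⟩ := exists_params_zmt (A := A') (B := B') Pz' (e := m)
    (fun Q hQ hPQ hQA => by
      have h1 : Q.comap (Ideal.Quotient.mk q.asIdeal) = Pz.asIdeal := by
        have h2 := hzcl (hW.fromSpec ⟨_, Ideal.comap_isPrime _ Q⟩) (by
          rw [← hPz]
          refine (hover _ Pz).mpr ?_
          show (Q.comap (Ideal.Quotient.mk q.asIdeal)).comap _ = _
          rw [← hcomm, hQA, hcomm, hPz']) (by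
          rw [← hPz]
          exact (hle_iff Pz _).mp (hPz'.ge.trans (Ideal.comap_mono hPQ)))
        rw [← hPz] at h2
        exact congrArg PrimeSpectrum.asIdeal (hW.fromSpec.isOpenEmbedding.injective h2)
      exact Ideal.comap_injective_of_surjective _ Ideal.Quotient.mk_surjective (h1.trans hPz'.symm))
    (fun l hl hlast => by
      let w : Fin (l.length + 1) → PrimeSpectrum Γ(X, W) := fun j => (l j.rev).comap (Ideal.Quotient.mk q.asIdeal)
      have hw : StrictMono fun j : Fin (l.length + 1) =>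
          (⟨hW.fromSpec (w j), by
            rw [← hfz, ← hPz]
            refine (hover _ Pz).mpr ?_
            show ((l j.rev).asIdeal.comap (Ideal.Quotient.mk q.asIdeal)).comap _ = _
            rw [← hcomm, hl, hcomm, hPz'], by
            rw [← hq]
            refine (hle_iff q (w j)).mp fun c hc => ?_
            show Ideal.Quotient.mk q.asIdeal c ∈ (l j.rev).asIdeal
            rw [Ideal.Quotient.eq_zero_iff_mem.mpr hc]
            exact zero_mem _, hWU _ (by
            have : hW.fromSpec (w j) ∈ Set.range hW.fromSpec := ⟨_, rfl⟩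
            rwa [hW.range_fromSpec] at this)⟩ :
            {v : X | f v = f x ∧ ξ ⤳ v ∧ v ∈ U}) := fun i j hij => by
        have h0 := l.strictMono (Fin.rev_lt_rev.mpr hij)
        refine lt_of_le_not_ge ((hle_iff _ _).mp (Ideal.comap_mono h0.le)) fun h => h0.not_ge ?_
        exact (Ideal.comap_le_comap_iff_of_surjective _ Ideal.Quotient.mk_surjective _ _).mp ((hle_iff _ _).mpr h)
      have h2 := (Order.le_krullDim_iff.mpr ⟨LTSeries.mk l.length _ hw, rfl⟩).trans hdim
      exact_mod_cast h2)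
    (le_of_eq hm.symm)
  obtain ⟨r, rfl⟩ := Ideal.Quotient.mk_surjective r
  have hrP : r ∉ P.asIdeal := fun h => hr (Ideal.mem_map_of_mem _ (hPPz h))
  have hgu' : CAlg2.IsGeomUnibranch (Localization.AtPrime p') :=
    geomUnibranch_quotient p.asIdeal hgu N.asIdeal hNp hminN p' hp'
  let P' : Ideal B' := P.asIdeal.map (Ideal.Quotient.mk q.asIdeal)
  haveI : P'.IsPrime := Ideal.map_isPrime_of_surjective Ideal.Quotient.mk_surjective
    (by rw [Ideal.mk_ker]; exact hqP)
  have hP' : P'.comap (Ideal.Quotient.mk q.asIdeal) = P.asIdeal := by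
    rw [Ideal.comap_map_of_surjective _ Ideal.Quotient.mk_surjective, ← RingHom.ker_eq_comap_bot, Ideal.mk_ker,
      sup_eq_left.mpr hqP]
  have hP'p : P'.comap (algebraMap A' B') = p' :=
    Ideal.comap_injective_of_surjective _ Ideal.Quotient.mk_surjective (by rw [hcomm, hP', ← hp']; rfl)
  rw [← hfN, ← hfp, FibSemi.krullDim_between hV N p hNp, ← hq, ← hP, FibSemi.krullDim_between hW q P hqP]
  refine WithBot.coe_le_coe.mpr ?_
  change (⟨p', inferInstance⟩ : PrimeSpectrum A').asIdeal.height ≤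
    (⟨P', inferInstance⟩ : PrimeSpectrum B').asIdeal.height
  rw [PrimeSpectrum.height_eq_orderHeight, PrimeSpectrum.height_eq_orderHeight]
  refine Order.height_le fun l hl => ?_
  obtain ⟨w, hwlen, hwP⟩ := exists_chain_le (FractionRing B') a ha P' p' hP'p hgu' (Ideal.Quotient.mk q.asIdeal r)
    (fun h => hrP (by rw [← hP']; exact h)) hrint l (congrArg PrimeSpectrum.asIdeal hl)
  rw [← hwlen]
  exact Order.length_le_height (show w.last ≤ (⟨P', inferInstance⟩ : PrimeSpectrum B') from hwP)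

/-- EGA IV 13.3.6: over a geometrically unibranch point the dimension inequality is an equality. -/
theorem dim_eq_of_dim [IsLocallyNoetherian Y] [LocallyOfFiniteType f] {ξ x : X} (hξx : ξ ⤳ x)
    (hη : ∀ y' : Y, y' ⤳ f ξ → y' = f ξ) (hy : CAlg2.IsGeomUnibranch (Y.presheaf.stalk (f x))) {e : ℕ}
    (he : Order.krullDim {z : X | f z = f ξ ∧ ξ ⤳ z} = e) (U : X.Opens) (hxU : x ∈ U)
    (hdim : Order.krullDim {z : X | f z = f x ∧ ξ ⤳ z ∧ z ∈ U} ≤ e) :
    ∃ b t a : ℕ, Order.krullDim {z : X | ξ ⤳ z ∧ z ⤳ x} = b ∧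
      Order.krullDim {z : X | f z = f x ∧ x ⤳ z} = t ∧
      Order.krullDim {z : Y | f ξ ⤳ z ∧ z ⤳ f x} = a ∧ b + t = a + e := by
  obtain ⟨b, t, a, e', hb, ht, ha, he', hle⟩ := FibSemi.dim_inequality f hξx
  have hee : e = e' := by rw [he'] at he; exact_mod_cast he.symm
  subst hee
  refine ⟨b, t, a, hb, ht, ha, le_antisymm hle ?_⟩
  -- the closure of `ξ` as a scheme
  let Zc : Closeds X := ⟨closure {ξ}, isClosed_closure⟩
  let ι := (Scheme.IdealSheafData.vanishingIdeal Zc).subschemeι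
  let G := ι ≫ f
  have hrange : Set.range ι = closure {ξ} := RedSub.range_vanishingIdeal_subschemeι Zc
  obtain ⟨w, hw⟩ : x ∈ Set.range ι := hrange ▸ specializes_iff_mem_closure.mp hξx
  obtain ⟨g₀, hg₀⟩ : ξ ∈ Set.range ι := hrange ▸ subset_closure rfl
  have hgw : g₀ ⤳ w := ι.isEmbedding.specializes_iff.mp (by rw [hg₀, hw]; exact hξx)
  have hGw : G w = f x := congrArg f hw
  have hGg : G g₀ = f ξ := congrArg f hg₀
  have hmem : ∀ z, ξ ⤳ ι z := fun z => specializes_iff_mem_closure.mpr (hrange ▸ ⟨z, rfl⟩)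
  have hspecs : ∀ a : (Scheme.IdealSheafData.vanishingIdeal Zc).subscheme,
      Order.krullDim {z | G z = G a ∧ a ⤳ z} = Order.krullDim {z : X | f z = f (ι a) ∧ ι a ⤳ z} := by
    intro a
    refine FibSemi.krullDim_eq_of_embedding ι (fun a b => ι.isEmbedding.specializes_iff) ι.isEmbedding.injective _ _
      fun z => ?_
    constructor
    · rintro ⟨h1, h2⟩
      obtain ⟨z', rfl⟩ : z ∈ Set.range ι := by
        rw [hrange]; exact specializes_iff_mem_closure.mp ((hmem a).trans h2)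
      exact ⟨z', ⟨h1, ι.isEmbedding.specializes_iff.mp h2⟩, rfl⟩
    · rintro ⟨z', ⟨hz1, hz2⟩, rfl⟩
      exact ⟨hz1, Specializes.map hz2 ι.continuous⟩
  obtain ⟨n, m, hn, hm, hfd⟩ := FibSemi.fibreDimAt_eq_add G w
  have hmt : m = t := by
    rw [hspecs, hw, ht] at hm
    exact_mod_cast hm.symm
  have hen : e ≤ n + m := by
    have h1 := FibSemi.topDim_closure_le_fibreDimAt G hgw
    rw [FibSemi.topDim_closure_inter_fibre_eq, hspecs, hg₀, he, hfd] at h1
    exact_mod_cast h1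
  subst hmt
  -- a chain of generizations in the fibre, inside the closure of `ξ`
  obtain ⟨l, hl⟩ := Order.le_krullDim_iff.mp (le_of_eq hn.symm : ((n : ℕ∞) : WithBot ℕ∞) ≤ _)
  let c : X := ι (l.last).1
  have hcx : c ⤳ x := hw ▸ (l.last).2.2.map ι.continuous
  have hfc : f c = f x := (l.last).2.1.trans hGw
  have h1 := height_le_of_dim f (hmem _) hη (hfc.symm ▸ hy) he U (hcx.mem_open U.isOpen hxU) (hfc.symm ▸ hdim)
  rw [hfc, ha] at h1
  obtain ⟨k, hk⟩ := Order.le_krullDim_iff.mp h1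
  -- stack the two chains
  let S := {z : X | ξ ⤳ z ∧ z ⤳ x}
  let j : Fin (n + a + 1) → S := fun i =>
    if h : (i : ℕ) < n then ⟨ι (l ⟨i, by omega⟩).1, hmem _, hw ▸ (l _).2.2.map ι.continuous⟩
    else ⟨(k ⟨i - n, by omega⟩).1, (k _).2.1, (k _).2.2.trans hcx⟩
  have hj : StrictMono j := by
    refine Fin.strictMono_iff_lt_succ.mpr fun i => ?_
    simp only [j, Fin.val_castSucc, Fin.val_succ]
    have hι : ∀ p q : Fin (l.length + 1), p < q → ι (l q).1 ⤳ ι (l p).1 ∧ ¬ ι (l p).1 ⤳ ι (l q).1 :=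
      fun p q hpq => ⟨(show (l q).1 ⤳ (l p).1 from (l.strictMono hpq).le).map ι.continuous,
        fun h => (l.strictMono hpq).not_ge (show (l p).1 ⤳ (l q).1 from ι.isEmbedding.specializes_iff.mp h)⟩
    by_cases h1 : (i : ℕ) + 1 < n
    · rw [dif_pos (show (i : ℕ) < n by omega), dif_pos h1]
      exact hι _ _ (show (i : ℕ) < (i : ℕ) + 1 by omega)
    · rw [dif_neg h1]
      by_cases h2 : (i : ℕ) < n
      · rw [dif_pos h2]
        have hk0 : (k ⟨(i : ℕ) + 1 - n, by omega⟩).1 ⤳ c := (k _).2.2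
        have hlast := hι ⟨i, by omega⟩ (Fin.last l.length) (show (i : ℕ) < l.length by omega)
        exact ⟨hk0.trans hlast.1, fun h => hlast.2 ((show ι _ ⤳ _ from h).trans hk0)⟩
      · rw [dif_neg h2]
        exact k.strictMono (show (i : ℕ) - n < (i : ℕ) + 1 - n by omega)
  have h2 := (Order.le_krullDim_iff.mpr ⟨LTSeries.mk _ j hj, rfl⟩).trans_eq hb
  have h3 : n + a ≤ b := by exact_mod_cast h2
  omega

end Groth.Agent.GUOpen
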