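import Mathlib
import Groth.Agent.GUOpen.Fibre
import Groth.Agent.QSect.Scheme

/-!
Quasi-sections through a closed point of a fibre, inside a component with small fibre (EGA IV 14.5.3).
-/

set_option autoImplicit false
set_option linter.style.haveILetI false
universe u
open CategoryTheory AlgebraicGeometry Limits Topology TopologicalSpace

noncomputable section

namespace Groth.Agent.GUOpen

variable {X Y : Scheme.{u}} (f : X ⟶ Y) [LocallyOfFiniteType f]

/-- A quasi-section through a closed point of a fibre. -/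
theorem exists_quasiSection_of_dim [IrreducibleSpace Y] [IsLocallyNoetherian Y] {ξ x : X} (hξx : ξ ⤳ x)
    (hfξ : f ξ = genericPoint Y) (hcl : ∀ x' : X, f x' = f x → x ⤳ x' → x' = x) {e : ℕ}
    (he : Order.krullDim {z : X | f z = f ξ ∧ ξ ⤳ z} = e) (U : X.Opens) (hxU : x ∈ U)
    (hdim : Order.krullDim {z : X | f z = f x ∧ ξ ⤳ z ∧ z ∈ U} ≤ e) :
    ∃ (T : Scheme.{u}) (i : T ⟶ X), IsImmersion i ∧ IrreducibleSpace ↥T ∧ IsReduced T ∧ x ∈ Set.range i.base ∧
      LocallyOfFiniteType (i ≫ f) ∧ LocallyQuasiFinite (i ≫ f) ∧ QuasiCompact (i ≫ f) ∧ IsDominant (i ≫ f) := by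
  obtain ⟨V, hV, hyV, -⟩ := exists_isAffineOpen_mem_and_subset (U := ⊤) (x := f x) trivial
  obtain ⟨W, hW, hxW, eWsub⟩ := exists_isAffineOpen_mem_and_subset (U := U ⊓ f ⁻¹ᵁ V) (x := x) ⟨hxU, hyV⟩
  have eW : W ≤ f ⁻¹ᵁ V := fun w hw => (eWsub hw).2
  letI algAB : Algebra Γ(Y, V) Γ(X, W) := (f.appLE V W eW).hom.toAlgebra
  haveI : Algebra.FiniteType Γ(Y, V) Γ(X, W) := LocallyOfFiniteType.finiteType_appLE f hV hW eW
  haveI : IsNoetherianRing Γ(Y, V) := IsLocallyNoetherian.component_noetherian ⟨V, hV⟩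
  have hle_iff : ∀ a b : PrimeSpectrum Γ(X, W), a ≤ b ↔ hW.fromSpec a ⤳ hW.fromSpec b := fun a b =>
    (PrimeSpectrum.le_iff_specializes a b).trans hW.fromSpec.isOpenEmbedding.isEmbedding.specializes_iff.symm
  have hover : ∀ a b : PrimeSpectrum Γ(X, W),
      f (hW.fromSpec a) = f (hW.fromSpec b) ↔
        a.asIdeal.comap (algebraMap Γ(Y, V) Γ(X, W)) = b.asIdeal.comap (algebraMap Γ(Y, V) Γ(X, W)) := fun a b => by
    rw [DimSpec.app_fromSpec hV hW eW, DimSpec.app_fromSpec hV hW eW]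
    exact hV.fromSpec.isOpenEmbedding.injective.eq_iff.trans PrimeSpectrum.ext_iff
  have hmemW : ∀ a : PrimeSpectrum Γ(X, W), hW.fromSpec a ∈ W := fun a => by
    have : hW.fromSpec a ∈ Set.range hW.fromSpec := ⟨a, rfl⟩
    rwa [hW.range_fromSpec] at this
  have hξW : ξ ∈ W := hξx.mem_open W.isOpen hxW
  obtain ⟨P, hP⟩ := DimSpec.exists_fromSpec hW hxW
  obtain ⟨q, hq⟩ := DimSpec.exists_fromSpec hW hξW
  obtain ⟨η, hη⟩ := DimSpec.exists_fromSpec hV (show genericPoint Y ∈ V from
    (genericPoint_specializes _).mem_open V.isOpen hyV)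
  have hqη : q.comap (algebraMap Γ(Y, V) Γ(X, W)) = η := by
    apply hV.fromSpec.isOpenEmbedding.injective
    show hV.fromSpec (q.comap (f.appLE V W eW).hom) = _
    rw [← DimSpec.app_fromSpec hV hW eW, hq, hfξ, hη]
  haveI := P.isPrime
  haveI := q.isPrime
  haveI := η.isPrime
  have hqP : q.asIdeal ≤ P.asIdeal := (hle_iff q P).mpr (by rw [hq, hP]; exact hξx)
  let B' := Γ(X, W) ⧸ q.asIdeal
  haveI : IsDomain B' := Ideal.Quotient.isDomain _
  haveI : Algebra.FiniteType Γ(Y, V) B' :=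
    .of_surjective (Ideal.Quotient.mkₐ _ q.asIdeal) Ideal.Quotient.mk_surjective
  let P' : Ideal B' := P.asIdeal.map (Ideal.Quotient.mk q.asIdeal)
  haveI : P'.IsPrime := Ideal.map_isPrime_of_surjective Ideal.Quotient.mk_surjective (by rw [Ideal.mk_ker]; exact hqP)
  have hP' : P'.comap (Ideal.Quotient.mk q.asIdeal) = P.asIdeal := by
    rw [Ideal.comap_map_of_surjective _ Ideal.Quotient.mk_surjective, ← RingHom.ker_eq_comap_bot, Ideal.mk_ker,
      sup_eq_left.mpr hqP]
  have hcomm : ∀ Q : Ideal B', Q.comap (algebraMap Γ(Y, V) B') =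
      (Q.comap (Ideal.Quotient.mk q.asIdeal)).comap (algebraMap Γ(Y, V) Γ(X, W)) := fun Q => by
    rw [Ideal.comap_comap]
    rfl
  haveI : (⊥ : Ideal B').IsPrime := Ideal.isPrime_bot
  obtain ⟨t, ht, -, htP, htA, r, hrP, hint⟩ := QSect.exists_section_ring (A := Γ(Y, V)) η.asIdeal P' (e := e)
    (fun Q hQ hPQ hQA => by
      have h1 := hcl (hW.fromSpec ⟨_, Ideal.comap_isPrime _ Q⟩) (by
        rw [← hP]
        refine (hover _ P).mpr ?_
        show (Q.comap (Ideal.Quotient.mk q.asIdeal)).comap _ = _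
        rw [← hcomm, hQA, hcomm, hP']) (by
        rw [← hP]
        exact (hle_iff P _).mp (hP'.ge.trans (Ideal.comap_mono hPQ)))
      rw [← hP] at h1
      exact Ideal.comap_injective_of_surjective _ Ideal.Quotient.mk_surjective
        ((congrArg PrimeSpectrum.asIdeal (hW.fromSpec.isOpenEmbedding.injective h1)).trans hP'.symm))
    (fun l hl _ => by
      let w : Fin (l.length + 1) → PrimeSpectrum Γ(X, W) := fun j => (l j.rev).comap (Ideal.Quotient.mk q.asIdeal)
      have hw : StrictMono fun j : Fin (l.length + 1) =>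
          (⟨hW.fromSpec (w j), by
            rw [← hP]
            refine (hover _ P).mpr ?_
            show ((l j.rev).asIdeal.comap (Ideal.Quotient.mk q.asIdeal)).comap _ = _
            rw [← hcomm, hl, hcomm, hP'], by
            rw [← hq]
            refine (hle_iff q (w j)).mp fun c hc => ?_
            show Ideal.Quotient.mk q.asIdeal c ∈ (l j.rev).asIdeal
            rw [Ideal.Quotient.eq_zero_iff_mem.mpr hc]
            exact zero_mem _, (eWsub (hmemW _)).1⟩ :
            {v : X | f v = f x ∧ ξ ⤳ v ∧ v ∈ U}) := fun i j hij => by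
        have h0 := l.strictMono (Fin.rev_lt_rev.mpr hij)
        refine lt_of_le_not_ge ((hle_iff _ _).mp (Ideal.comap_mono h0.le)) fun h => h0.not_ge ?_
        exact (Ideal.comap_le_comap_iff_of_surjective _ Ideal.Quotient.mk_surjective _ _).mp ((hle_iff _ _).mpr h)
      have h2 := (Order.le_krullDim_iff.mpr ⟨LTSeries.mk l.length _ hw, rfl⟩).trans hdim
      exact_mod_cast h2)
    (⊥ : Ideal B') bot_le (by
      rw [hcomm, ← RingHom.ker_eq_comap_bot, Ideal.mk_ker]
      exact congrArg PrimeSpectrum.asIdeal hqη) (by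
      have hWdim := FibSemi.krullDim_specs_opens f W ⟨ξ, hξW⟩
      change _ = Order.krullDim {z : X | f z = f ξ ∧ ξ ⤳ z} at hWdim
      rw [he] at hWdim
      obtain ⟨l, hlen⟩ := Order.le_krullDim_iff.mp (le_of_eq hWdim.symm)
      let l₀ : LTSeries X := l.map (fun z => W.ι z.1) fun a b h =>
        ⟨h.le.map W.ι.continuous, fun h' => h.not_ge ((FibSemi.le_of_specializes_open W _ _).mp h')⟩
      have hl₀ : ∀ i, f (l₀ i) = f ξ ∧ ξ ⤳ l₀ i ∧ l₀ i ∈ W := fun i =>
        ⟨(l i).2.1, (l i).2.2.map W.ι.continuous, (l i).1.2⟩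
      -- make it start at `ξ`
      obtain ⟨l₁, hlast, hl₁, hlen₁⟩ : ∃ l₁ : LTSeries X, l₁.last = ξ ∧ (∀ i, f (l₁ i) = f ξ ∧ ξ ⤳ l₁ i ∧ l₁ i ∈ W) ∧
          l₁.length = e := by
        by_cases heq : l₀.last = ξ
        · exact ⟨l₀, heq, hl₀, hlen⟩
        exfalso
        have he' : l₀.last < ξ := ⟨(hl₀ _).2.1, fun h => heq ((show Specializes _ _ from h).antisymm (hl₀ _).2.1).eq⟩
        let l₂ : LTSeries X := l₀.snoc ξ he'
        have hl₂ : ∀ i, f (l₂ i) = f ξ ∧ ξ ⤳ l₂ i := fun i => by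
          rcases RelSeries.mem_snoc.mp (⟨i, rfl⟩ : l₂ i ∈ l₂) with ⟨j, hj⟩ | hj
          · rw [← hj]; exact ⟨(hl₀ j).1, (hl₀ j).2.1⟩
          · rw [hj]; exact ⟨rfl, specializes_rfl⟩
        have h2 := (Order.le_krullDim_iff.mpr ⟨LTSeries.mk l₂.length
          (fun i => (⟨l₂ i, hl₂ i⟩ : {z : X | f z = f ξ ∧ ξ ⤳ z})) (fun i j hij => l₂.strictMono hij), rfl⟩).trans_eq he
        have h3 : l₂.length = e + 1 := by rw [← hlen]; rfl
        have h4 : l₂.length ≤ e := WithBot.coe_le_coe.mp h2 |> ENat.natCast_le_natCast.mp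
        omega
      choose p hp using fun i => DimSpec.exists_fromSpec hW (hl₁ i).2.2
      have hqp : ∀ i, q.asIdeal ≤ (p i).asIdeal := fun i => (hle_iff q (p i)).mpr (by rw [hq, hp]; exact (hl₁ i).2.1)
      let w : Fin (l₁.length + 1) → PrimeSpectrum B' := fun i =>
        ⟨(p i.rev).asIdeal.map (Ideal.Quotient.mk q.asIdeal),
          Ideal.map_isPrime_of_surjective Ideal.Quotient.mk_surjective (by rw [Ideal.mk_ker]; exact hqp _)⟩
      have hwc : ∀ i, (w i).asIdeal.comap (Ideal.Quotient.mk q.asIdeal) = (p i.rev).asIdeal := fun i => by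
        rw [Ideal.comap_map_of_surjective _ Ideal.Quotient.mk_surjective, ← RingHom.ker_eq_comap_bot, Ideal.mk_ker,
          sup_eq_left.mpr (hqp _)]
      have hstr : StrictMono w := fun i j hij => by
        have h0 := l₁.strictMono (Fin.rev_lt_rev.mpr hij)
        have hle : p i.rev ≤ p j.rev := (hle_iff _ _).mpr (by rw [hp, hp]; exact h0.le)
        refine lt_of_le_not_ge (Ideal.map_mono hle) fun h => ?_
        have h1 : p j.rev ≤ p i.rev := by
          show (p j.rev).asIdeal ≤ (p i.rev).asIdeal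
          rw [← hwc, ← hwc]
          exact Ideal.comap_mono h
        exact h0.not_ge (by rw [← hp, ← hp]; exact (hle_iff _ _).mp h1)
      refine ⟨LTSeries.mk l₁.length w hstr, ?_, fun i => ?_, hlen₁⟩
      · show (p (Fin.rev 0)).asIdeal.map (Ideal.Quotient.mk q.asIdeal) = ⊥
        rw [Fin.rev_zero]
        have : p (Fin.last l₁.length) = q := hW.fromSpec.isOpenEmbedding.injective
          ((hp _).trans (hlast.trans hq.symm))
        rw [this, Ideal.map_quotient_self]
      · show (w i).asIdeal.comap (algebraMap Γ(Y, V) B') = _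
        rw [hcomm]
        refine (congrArg (Ideal.comap (algebraMap Γ(Y, V) Γ(X, W))) (hwc i)).trans ?_
        rw [← congrArg PrimeSpectrum.asIdeal hqη]
        refine (hover _ q).mp ?_
        rw [hp, hq]
        exact (hl₁ _).1)
  haveI := ht
  obtain ⟨r, rfl⟩ := Ideal.Quotient.mk_surjective r
  haveI : (t.comap (Ideal.Quotient.mk q.asIdeal)).IsPrime := Ideal.comap_isPrime _ _
  obtain ⟨L, _, _, _, _, _, i, hi, hif, hPi, -, hbot⟩ := QSect.exists_chart f hV hW eW
    (t.comap (Ideal.Quotient.mk q.asIdeal)) P (by rw [← hP']; exact Ideal.comap_mono htP) r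
    (fun h => hrP (Ideal.mem_map_of_mem _ h)) (fun c => by
      obtain ⟨m, hm⟩ := hint (Ideal.Quotient.mk q.asIdeal c)
      refine ⟨m, ?_⟩
      let j : (Γ(X, W) ⧸ t.comap (Ideal.Quotient.mk q.asIdeal)) →ₐ[Γ(Y, V)] B' ⧸ t :=
        Ideal.quotientMapₐ t (Ideal.Quotient.mkₐ Γ(Y, V) q.asIdeal) le_rfl
      have hj : Function.Injective j := Ideal.quotientMap_injective' (H := le_rfl) le_rfl
      refine (isIntegral_algHom_iff j hj).mp ?_
      rw [show j (Ideal.Quotient.mk _ (r ^ m * c)) = Ideal.Quotient.mk t (Ideal.Quotient.mk q.asIdeal (r ^ m * c)) from rfl,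
        map_mul, map_pow]
      exact hm)
  refine ⟨_, i, hi, inferInstance, inferInstance, hP ▸ hPi,
    QSect.chart_properties hV η hη (hbot.trans ?_) _ hif⟩
  exact (hcomm t).symm.trans htA

end Groth.Agent.GUOpen
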