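import Mathlib
import Groth.Prelude.Def_EGA43

/-!
Universal openness at a point passes to its specializations in the same fibre.
-/

set_option autoImplicit false
set_option linter.style.haveILetI false
universe u
open CategoryTheory AlgebraicGeometry Limits Topology TopologicalSpace

noncomputable section

namespace Groth.Agent.GUOpen

variable {X Y : Scheme.{u}} (f : X ⟶ Y)

/-- Universal openness at `z` passes to `x` when `z ⤳ x` inside one fibre. -/
theorem isUnivOpenAt_of_specializes {z x : X} (hzx : z ⤳ x) (hf : f z = f x) (h : EGA43.IsUnivOpenAt f z) :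
    EGA43.IsUnivOpenAt f x := by
  intro Y' g x' hx' N hN
  let π := pullback.snd f g
  let y' := π x'
  let F := f.fiber (g y')
  let s : Spec (Y'.residueField y') ⟶ Spec (Y.residueField (g y')) := Spec.map (g.residueFieldMap y')
  have hs : s ≫ Y.fromSpecResidueField (g y') = Y'.fromSpecResidueField y' ≫ g := by
    simp [s]
  haveI : Flat s := by
    rw [HasRingHomProperty.Spec_iff (P := @Flat)]
    algebraize [(g.residueFieldMap y').hom]
    exact RingHom.flat_algebraMap_iff.mpr inferInstance
  let q : π.fiber y' ⟶ F := pullback.lift (π.fiberι y' ≫ pullback.fst f g) (π.fiberToSpecResidueField y' ≫ s) (by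
    rw [Category.assoc, Category.assoc, hs, pullback.condition, ← Category.assoc, ← Category.assoc]
    exact congrArg (· ≫ g) pullback.condition)
  have sq : IsPullback q (π.fiberToSpecResidueField y') (f.fiberToSpecResidueField (g y')) s := by
    refine IsPullback.of_right ?_ (pullback.lift_snd _ _ _) (IsPullback.of_hasPullback f (Y.fromSpecResidueField (g y')))
    rw [hs, show q ≫ pullback.fst f (Y.fromSpecResidueField (g y')) = π.fiberι y' ≫ pullback.fst f g from
      pullback.lift_fst _ _ _]
    exact (IsPullback.of_hasPullback π (Y'.fromSpecResidueField y')).paste_horiz (IsPullback.of_hasPullback f g)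
  haveI : Flat q := MorphismProperty.of_isPullback (P := @Flat) sq.flip inferInstance
  have hgy : g y' = f x := by
    rw [← hx', ← Scheme.Hom.comp_apply, ← Scheme.Hom.comp_apply]
    exact congrArg (fun k : pullback f g ⟶ Y => k x') pullback.condition.symm
  obtain ⟨zF, hzF⟩ : ∃ zF : F, f.fiberι (g y') zF = z := by
    have : z ∈ Set.range (f.fiberι (g y')) := by rw [f.range_fiberι]; exact hf.trans hgy.symm
    exact this
  have hq : ∀ w, f.fiberι (g y') (q w) = pullback.fst f g (π.fiberι y' w) := fun w => by
    exact congrArg (fun k : π.fiber y' ⟶ X => k w)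
      (show q ≫ f.fiberι (g y') = π.fiberι y' ≫ pullback.fst f g from pullback.lift_fst _ _ _)
  have hsp : zF ⤳ q (π.asFiber x') := by
    rw [← (f.fiberι (g y')).isEmbedding.specializes_iff, hzF, hq, π.fiberι_asFiber]
    exact hzx.trans (specializes_of_eq hx'.symm)
  obtain ⟨w, hw, hqw⟩ := Flat.generalizingMap q hsp
  have hwx : π.fiberι y' w ⤳ x' := by
    have h1 := Specializes.map hw (π.fiberι y').continuous
    rwa [π.fiberι_asFiber] at h1
  have hwy : π (π.fiberι y' w) = π x' := by
    have : π.fiberι y' w ∈ Set.range (π.fiberι y') := ⟨w, rfl⟩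
    rw [π.range_fiberι] at this
    exact this
  obtain ⟨N', hN'N, hN'o, hxN'⟩ := mem_nhds_iff.mp hN
  have h2 := h Y' g (π.fiberι y' w) (by
    show pullback.fst f g _ = z
    rw [← hq, hqw, hzF]) N' (hN'o.mem_nhds (hwx.mem_open hN'o hxN'))
  show _ ∈ nhds (π x')
  rw [← hwy]
  exact Filter.mem_of_superset h2 (Set.image_mono hN'N)

end Groth.Agent.GUOpen
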